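import Cfsg.Agent.HallEight.Setup
import Cfsg.Agent.OddOrder.BG4.Basic
import Cfsg.Agent.Transfer.Fusion

/-!
# An elementary abelian 2-group acting on a p-group of odd order

Either two independent commuting elements of order `p` are each fixed or inverted by every element,
or some nontrivial element centralises the p-group.
-/

set_option autoImplicit false
set_option linter.unusedSectionVars false
set_option linter.style.haveILetI false

namespace CfsgLib.HallEight

open Subgroup
open scoped commutatorElement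

variable {G : Type*} [Group G] [Finite G]

/-- Each element of `S` fixes or inverts `x`. -/
def IsEigen (S : Subgroup G) (x : G) : Prop :=
  ∀ s ∈ S, s * x * s⁻¹ = x ∨ s * x * s⁻¹ = x⁻¹

/-- An element outside `B` on which each element of `S` acts as `± 1` modulo `N`. -/
theorem exists_eigen_mod {S A N B : Subgroup G} (hScomm : ∀ x ∈ S, ∀ y ∈ S, x * y = y * x)
    (hSsq : ∀ x ∈ S, x * x = 1) (hSA : S ≤ normalizer (A : Set G))
    (hSN : S ≤ normalizer (N : Set G)) (hNA : N ≤ A) (hNB : N ≤ B)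
    (hA : ∀ x ∈ A, ∀ y ∈ A, x * y * x⁻¹ * y⁻¹ ∈ N) (hodd : Odd (Nat.card A)) (hAB : ¬ A ≤ B) :
    ∃ x ∈ A, x ∉ B ∧ ∀ s ∈ S, s * x * s⁻¹ * x⁻¹ ∈ N ∨ s * x * s⁻¹ * x ∈ N := by
  classical
  haveI hn : (N.subgroupOf A).Normal := ⟨fun n hn g => by
    have h1 := mul_mem (hA g g.2 n (hNA hn)) hn
    simpa [mem_subgroupOf, mul_assoc] using h1⟩
  let mk : A →* A ⧸ N.subgroupOf A := QuotientGroup.mk' _
  have hmk : ∀ x y : A, mk x = mk y ↔ (x : G) * (y : G)⁻¹ ∈ N := fun x y => by
    rw [← mul_inv_eq_one, ← map_inv, ← map_mul]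
    exact QuotientGroup.eq_one_iff _
  have hcomm : ∀ x y : A, mk x * mk y = mk y * mk x := fun x y => by
    rw [← map_mul, ← map_mul, hmk]
    simpa [mul_assoc] using hA x x.2 y y.2
  let c : ↥S → A → A := fun s x => ⟨(s : G) * x * (s : G)⁻¹, (mem_normalizer_iff.1 (hSA s.2) x).1 x.2⟩
  have hcmul : ∀ s x y, c s (x * y) = c s x * c s y := fun s x y => Subtype.ext (by simp [c, mul_assoc])
  have hcinv : ∀ s x, c s x⁻¹ = (c s x)⁻¹ := fun s x => Subtype.ext (by simp [c, mul_assoc])
  have hcongr : ∀ s x y, mk x = mk y → mk (c s x) = mk (c s y) := fun s x y e => by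
    rw [hmk] at e ⊢
    have := (mem_normalizer_iff.1 (hSN s.2) _).1 e
    simpa [c, mul_assoc] using this
  have hswap : ∀ s s' x, c s (c s' x) = c s' (c s x) := fun s s' x => Subtype.ext (by
    simp only [c]
    calc (s : G) * ((s' : G) * x * (s' : G)⁻¹) * (s : G)⁻¹
        = ((s : G) * s') * x * ((s : G) * s')⁻¹ := by group
      _ = ((s' : G) * s) * x * ((s' : G) * s)⁻¹ := by rw [hScomm s s.2 s' s'.2]
      _ = _ := by group)
  have hsq : ∀ s x, c s (c s x) = x := fun s x => Subtype.ext (by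
    simp only [c]
    calc (s : G) * ((s : G) * x * (s : G)⁻¹) * (s : G)⁻¹
        = ((s : G) * s) * x * ((s : G) * s)⁻¹ := by group
      _ = _ := by rw [hSsq s s.2]; group)
  haveI := Fintype.ofFinite (↥S)
  suffices key : ∀ L : Finset ↥S, ∃ x : A, (x : G) ∉ B ∧
      ∀ s ∈ L, mk (c s x) = mk x ∨ mk (c s x) = (mk x)⁻¹ by
    obtain ⟨x, hx, hx'⟩ := key Finset.univ
    refine ⟨x, x.2, hx, fun s hs => ?_⟩
    rcases hx' ⟨s, hs⟩ (Finset.mem_univ _) with e | e
    · exact Or.inl ((hmk _ _).1 e)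
    · rw [← map_inv, hmk, coe_inv, inv_inv] at e
      exact Or.inr e
  intro L
  induction L using Finset.induction with
  | empty =>
    obtain ⟨x, hx, hxB⟩ := SetLike.not_le_iff_exists.1 hAB
    exact ⟨⟨x, hx⟩, hxB, by simp⟩
  | @insert a L _ ih =>
    obtain ⟨x, hxB, hx⟩ := ih
    set y := c a x with hy
    have hpres : ∀ z : A, (z = x * y ∨ z = x * y⁻¹) → ∀ s ∈ insert a L,
        mk (c s z) = mk z ∨ mk (c s z) = (mk z)⁻¹ := by
      intro z hz s hs
      rcases Finset.mem_insert.1 hs with rfl | hs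
      · rcases hz with rfl | rfl
        · left; rw [hcmul, hy, hsq, map_mul, map_mul]; exact hcomm _ _
        · right
          rw [hcmul, hcinv, hy, hsq, map_mul, map_mul, map_inv, map_inv, mul_inv_rev, inv_inv]
      · rcases hx s hs with e | e
        · have e' : mk (c s y) = mk y := by rw [hy, hswap]; exact hcongr _ _ _ e
          left
          rcases hz with rfl | rfl
          · rw [hcmul, map_mul, map_mul, e, e']
          · rw [hcmul, hcinv, map_mul, map_mul, map_inv, map_inv, e, e']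
        · have e' : mk (c s y) = (mk y)⁻¹ := by
            rw [← map_inv] at e ⊢
            rw [hy, hswap, ← hcinv]
            exact hcongr _ _ _ e
          right
          rcases hz with rfl | rfl
          · rw [hcmul, map_mul, map_mul, e, e', ← mul_inv_rev, hcomm]
          · rw [hcmul, hcinv, map_mul, map_mul, map_inv, map_inv, e, e', ← mul_inv_rev, ← map_inv,
              hcomm]
    by_cases h1 : ((x * y : A) : G) ∈ B
    · by_cases h2 : ((x * y⁻¹ : A) : G) ∈ B
      · exfalso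
        have h3 := mul_mem h1 h2
        have hxx : (x : G) * x ∈ B := by
          have h4 : (x : G)⁻¹ * y * x * (y : G)⁻¹ ∈ N := by
            simpa using hA _ (inv_mem x.2) y y.2
          rw [show (x : G) * x = ((x * y : A) : G) * ((x * y⁻¹ : A) : G) *
            ((x : G)⁻¹ * y * x * (y : G)⁻¹)⁻¹ by push_cast; group]
          exact mul_mem h3 (inv_mem (hNB h4))
        obtain ⟨j, hj⟩ := hodd.of_dvd_nat (orderOf_dvd_natCard A x.2)
        have h5 := pow_mem hxx (j + 1)
        rw [← pow_two, ← pow_mul, show 2 * (j + 1) = orderOf (x : G) + 1 by omega, pow_succ,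
          pow_orderOf_eq_one, one_mul] at h5
        exact hxB h5
      · exact ⟨x * y⁻¹, h2, hpres _ (Or.inr rfl)⟩
    · exact ⟨x * y, h1, hpres _ (Or.inl rfl)⟩

/-- The exact version in an abelian subgroup. -/
theorem exists_eigen {S A B : Subgroup G} (hScomm : ∀ x ∈ S, ∀ y ∈ S, x * y = y * x)
    (hSsq : ∀ x ∈ S, x * x = 1) (hSA : S ≤ normalizer (A : Set G))
    (hA : ∀ x ∈ A, ∀ y ∈ A, x * y = y * x) (hodd : Odd (Nat.card A)) (hAB : ¬ A ≤ B) :
    ∃ x ∈ A, x ∉ B ∧ IsEigen S x := by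
  obtain ⟨x, hxA, hxB, hx⟩ := exists_eigen_mod (N := ⊥) hScomm hSsq hSA
    (le_normalizer_of_normal) bot_le bot_le
    (fun a ha b hb => by rw [mem_bot, hA a ha b hb]; group) hodd hAB
  refine ⟨x, hxA, hxB, fun s hs => ?_⟩
  rcases hx s hs with e | e
  · exact Or.inl (mul_inv_eq_one.1 (mem_bot.1 e))
  · exact Or.inr (eq_inv_of_mul_eq_one_left (mem_bot.1 e))

namespace Hyp

variable {S : Sylow 2 G} (h : Hyp S)
include h

/-- Some nontrivial element of `S` fixes a given eigenvector. -/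
theorem exists_fix_eigen {x : G} (hx : IsEigen (S : Subgroup G) x) :
    ∃ s ∈ (S : Subgroup G), s ≠ 1 ∧ s * x * s⁻¹ = x := by
  classical
  by_contra! hno
  haveI := Fintype.ofFinite (S : Subgroup G)
  have hc : Fintype.card (S : Subgroup G) = 8 := by rw [← Nat.card_eq_fintype_card, h.card_eq]
  obtain ⟨a, ha⟩ := Fintype.exists_ne_of_one_lt_card (by omega) (1 : (S : Subgroup G))
  obtain ⟨b, hb⟩ : ∃ b : (S : Subgroup G), b ∉ ({1, a} : Finset _) := by
    by_contra! hall
    have h1 : Fintype.card (S : Subgroup G) ≤ ({1, a} : Finset (S : Subgroup G)).card := by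
      rw [← Finset.card_univ]; exact Finset.card_le_card fun x _ => hall x
    have h2 := h1.trans Finset.card_le_two
    omega
  simp only [Finset.mem_insert, Finset.mem_singleton, not_or] at hb
  have e1 := (hx a a.2).resolve_left fun e => hno a a.2 (fun e' => ha (Subtype.ext e')) e
  have e2 := (hx b b.2).resolve_left fun e => hno b b.2 (fun e' => hb.1 (Subtype.ext e')) e
  refine hno ((a : G) * b) (mul_mem a.2 b.2) (fun e => hb.2 (Subtype.ext ?_)) ?_
  · calc (b : G) = (a : G)⁻¹ * ((a : G) * b) := by group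
      _ = a := by rw [e, mul_one, h.inv_eq a.2]
  · calc (a : G) * b * x * ((a : G) * b)⁻¹ = (a : G) * ((b : G) * x * (b : G)⁻¹) * (a : G)⁻¹ := by group
      _ = (a : G) * x⁻¹ * (a : G)⁻¹ := by rw [e2]
      _ = ((a : G) * x * (a : G)⁻¹)⁻¹ := by group
      _ = x := by rw [e1, inv_inv]

/-- The dichotomy. -/
theorem exists_eigen_pair_or_centralizes {p : ℕ} [Fact p.Prime] (hp2 : p ≠ 2) {T : Subgroup G}
    (hT : IsPGroup p T) (hST : (S : Subgroup G) ≤ normalizer (T : Set G)) :
    (∃ x y : G, x ∈ T ∧ y ∈ T ∧ x ^ p = 1 ∧ y ^ p = 1 ∧ y ∉ zpowers x ∧ x ≠ 1 ∧ x * y = y * x ∧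
      IsEigen (S : Subgroup G) x ∧ IsEigen (S : Subgroup G) y) ∨
    ∃ s ∈ (S : Subgroup G), s ≠ 1 ∧ T ≤ centralizer ({s} : Set G) := by
  obtain ⟨Q, hQc, hQexp, hQcl, hQf⟩ := CfsgLib.OddOrder.BG4.exists_critical_exponent hp2 hT
  haveI := hQc
  set Q' := Q.map T.subtype with hQ'
  have hQT : Q' ≤ T := map_subtype_le _
  have hpow : ∀ x ∈ Q', x ^ p = 1 := by
    rintro _ ⟨x, hx, rfl⟩
    rw [← map_pow, hQexp x hx, map_one]
  have hSQ : (S : Subgroup G) ≤ normalizer (Q' : Set G) :=
    hST.trans (CfsgLib.Components.normalizer_le_normalizer_map_subtype T Q)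
  have hoddle : ∀ {A : Subgroup G}, A ≤ T → Odd (Nat.card A) := fun {A} hA => by
    obtain ⟨e, he⟩ := IsPGroup.iff_card.1 (hT.to_le hA)
    rw [he]; exact (Nat.Prime.odd_of_ne_two (Fact.out : p.Prime) hp2).pow
  have hScomm : ∀ x ∈ (S : Subgroup G), ∀ y ∈ (S : Subgroup G), x * y = y * x :=
    fun x hx y hy => h.commute hx hy
  -- a centralised `Q` gives a centralised `T`
  have hcentQ : ∀ s ∈ (S : Subgroup G), s ≠ 1 → (∀ x ∈ Q', s * x * s⁻¹ = x) →
      T ≤ centralizer ({s} : Set G) := by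
    intro s hs hs1 hfix
    let a : MulAut T := MulAut.conjNormal (H := T.subgroupOf (normalizer (T : Set G)))
      (⟨s, hST hs⟩ : normalizer (T : Set G)) |> fun f =>
        ((subgroupOfEquivOfLe le_normalizer).symm.trans f).trans (subgroupOfEquivOfLe le_normalizer)
    have hav : ∀ x : T, ((a x : T) : G) = s * x * s⁻¹ := fun x => rfl
    have ha2 : a ^ 2 = 1 := by
      refine MulEquiv.ext fun x => Subtype.ext ?_
      rw [pow_two, MulAut.mul_apply, hav, hav, MulAut.one_apply, ← mul_assoc, ← mul_assoc, h.sq s hs,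
        one_mul, mul_assoc, ← mul_inv_rev, h.sq s hs, inv_one, mul_one]
    have ha : a = 1 := by
      refine hQf a (Nat.Coprime.coprime_dvd_left (orderOf_dvd_of_pow_eq_one ha2) ?_) fun x hx =>
        Subtype.ext ?_
      · exact (Nat.coprime_primes Nat.prime_two Fact.out).2 (Ne.symm hp2)
      · rw [hav]; exact hfix x ⟨x, hx, rfl⟩
    intro x hx
    rw [mem_centralizer_singleton_iff]
    have h1 := congrArg (fun f : MulAut T => ((f ⟨x, hx⟩ : T) : G)) ha
    simp only [hav, MulAut.one_apply] at h1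
    exact (mul_inv_eq_iff_eq_mul.1 h1).symm
  set A := Q' ⊓ centralizer (Q' : Set G) with hAdef
  have hSA : (S : Subgroup G) ≤ normalizer (A : Set G) := by
    refine (le_inf hSQ (hSQ.trans fun g hg => ?_)).trans inf_normalizer_le_normalizer_inf
    rw [mem_normalizer_iff]
    intro c
    simp only [mem_centralizer_iff]
    constructor
    · intro hc q hq
      have := hc (g⁻¹ * q * g) ((mem_normalizer_iff''.1 hg q).1 hq)
      calc q * (g * c * g⁻¹) = g * ((g⁻¹ * q * g) * c) * g⁻¹ := by group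
        _ = g * (c * (g⁻¹ * q * g)) * g⁻¹ := by rw [this]
        _ = _ := by group
    · intro hc q hq
      have := hc (g * q * g⁻¹) ((mem_normalizer_iff.1 hg q).1 hq)
      calc q * c = g⁻¹ * ((g * q * g⁻¹) * (g * c * g⁻¹)) * g := by group
        _ = g⁻¹ * ((g * c * g⁻¹) * (g * q * g⁻¹)) * g := by rw [this]
        _ = c * q := by group
  have hAab : ∀ x ∈ A, ∀ y ∈ A, x * y = y * x := fun x hx y hy =>
    (mem_centralizer_iff.1 hy.2) x hx.1
  by_cases hA : A ≤ ⊥
  · -- `Q'` is trivial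
    have hQbot : Q' = ⊥ := by
      by_contra hne
      haveI : Nontrivial Q' := (nontrivial_iff_ne_bot _).2 hne
      haveI := (hT.to_le hQT).center_nontrivial
      obtain ⟨z, hz⟩ := exists_ne (1 : center Q')
      refine hz (Subtype.ext (Subtype.ext (mem_bot.1 (hA (mem_inf.2 ⟨(z : Q').2, ?_⟩)))))
      rw [mem_centralizer_iff]
      exact fun y hy => congrArg Subtype.val (mem_center_iff.1 z.2 ⟨y, hy⟩)
    obtain ⟨s, hs, hs1⟩ : ∃ s ∈ (S : Subgroup G), s ≠ 1 := by
      by_contra! hc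
      have h8 := h.card_eq
      rw [(eq_bot_iff_forall _).2 hc, card_bot] at h8
      omega
    exact Or.inr ⟨s, hs, hs1, hcentQ s hs hs1 fun x hx => by
      rw [hQbot, mem_bot] at hx; rw [hx, mul_one, mul_inv_cancel]⟩
  obtain ⟨x, hxA, hx1, hxe⟩ := exists_eigen (B := ⊥) hScomm h.sq hSA hAab
    (hoddle (inf_le_left.trans hQT)) hA
  have hx0 : x ≠ 1 := fun e => hx1 (mem_bot.2 e)
  have hSX : (S : Subgroup G) ≤ normalizer (zpowers x : Set G) := by
    intro s hs
    refine CfsgLib.Transfer.mem_normalizer_of_map_conj_eq ?_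
    rw [MonoidHom.map_zpowers]
    rcases hxe s hs with e | e
    · simp only [MulEquiv.coe_toMonoidHom, MulAut.conj_apply, e]
    · simp only [MulEquiv.coe_toMonoidHom, MulAut.conj_apply, e, zpowers_inv]
  by_cases hA2 : A ≤ zpowers x
  · by_cases hQ2 : Q' ≤ zpowers x
    · obtain ⟨s, hs, hs1, hfix⟩ := h.exists_fix_eigen hxe
      refine Or.inr ⟨s, hs, hs1, hcentQ s hs hs1 fun z hz => ?_⟩
      have : zpowers x ≤ centralizer ({s} : Set G) :=
        zpowers_le.2 (mem_centralizer_singleton_iff.2 (mul_inv_eq_iff_eq_mul.1 hfix).symm)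
      have h1 := mem_centralizer_singleton_iff.1 (this (hQ2 hz))
      rw [← h1, mul_inv_cancel_right]
    have hcl : ∀ a ∈ Q', ∀ b ∈ Q', a * b * a⁻¹ * b⁻¹ ∈ zpowers x := by
      rintro _ ⟨a, ha, rfl⟩ _ ⟨b, hb, rfl⟩
      have ha' : T.subtype a ∈ Q' := ⟨a, ha, rfl⟩
      have hb' : T.subtype b ∈ Q' := ⟨b, hb, rfl⟩
      refine hA2 (mem_inf.2 ⟨mul_mem (mul_mem (mul_mem ha' hb') (inv_mem ha')) (inv_mem hb'), ?_⟩)
      rw [mem_centralizer_iff]
      rintro _ ⟨c, hc, rfl⟩
      exact congrArg Subtype.val (hQcl a ha b hb c hc).eq.symm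
    obtain ⟨y, hyQ, hyX, hye⟩ := exists_eigen_mod (N := zpowers x) (B := zpowers x) hScomm h.sq hSQ
      hSX (zpowers_le.2 hxA.1) le_rfl hcl (hoddle hQT) hQ2
    have hxy : ∀ z ∈ zpowers x, y * z = z * y := fun z hz => by
      have := mem_centralizer_iff.1 ((zpowers_le.2 hxA.2) hz) y hyQ
      exact this
    set B := zpowers x ⊔ zpowers y with hB
    have hBQ : B ≤ Q' := sup_le (zpowers_le.2 hxA.1) (zpowers_le.2 hyQ)
    have hBab : ∀ a ∈ B, ∀ b ∈ B, a * b = b * a := by
      have : IsMulCommutative (closure ({x, y} : Set G)) := by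
        refine isMulCommutative_closure ?_
        rintro p (rfl | rfl) q (rfl | rfl)
        exacts [rfl, (hxy _ (mem_zpowers _)).symm, hxy _ (mem_zpowers _), rfl]
      have hBc : B = closure ({x, y} : Set G) := by
        rw [hB, zpowers_eq_closure, zpowers_eq_closure, ← Subgroup.closure_union, Set.singleton_union]
      intro a ha b hb
      rw [hBc] at ha hb
      exact congrArg Subtype.val (this.is_comm.comm ⟨a, ha⟩ ⟨b, hb⟩)
    have hSB : (S : Subgroup G) ≤ normalizer (B : Set G) := by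
      intro s hs
      refine CfsgLib.Transfer.mem_normalizer_of_map_conj_eq
        (eq_of_le_of_card_ge ?_ (card_map_of_injective (MulAut.conj s).injective).ge)
      rw [hB, Subgroup.map_sup]
      refine sup_le ?_ ?_
      · rw [CfsgLib.Transfer.map_conj_eq_of_mem_normalizer (hSX hs)]
        exact le_sup_left
      · rw [MonoidHom.map_zpowers, zpowers_le]
        simp only [MulEquiv.coe_toMonoidHom, MulAut.conj_apply]
        rcases hye s hs with e | e
        · rw [show s * y * s⁻¹ = (s * y * s⁻¹ * y⁻¹) * y by group]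
          exact mul_mem (mem_sup_left e) (mem_sup_right (mem_zpowers y))
        · rw [show s * y * s⁻¹ = (s * y * s⁻¹ * y) * y⁻¹ by group]
          exact mul_mem (mem_sup_left e) (mem_sup_right (inv_mem (mem_zpowers y)))
    obtain ⟨z, hzB, hzX, hze⟩ := exists_eigen (B := zpowers x) hScomm h.sq hSB hBab
      (hoddle (hBQ.trans hQT)) fun hle => hyX (hle (mem_sup_right (mem_zpowers y)))
    exact Or.inl ⟨x, z, hQT hxA.1, hQT (hBQ hzB), hpow x hxA.1, hpow z (hBQ hzB), hzX, hx0,
      hBab x (mem_sup_left (mem_zpowers x)) z hzB, hxe, hze⟩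
  · obtain ⟨z, hzA, hzX, hze⟩ := exists_eigen (B := zpowers x) hScomm h.sq hSA hAab
      (hoddle (inf_le_left.trans hQT)) hA2
    exact Or.inl ⟨x, z, hQT hxA.1, hQT hzA.1, hpow x hxA.1, hpow z hzA.1, hzX, hx0,
      hAab x hxA z hzA, hxe, hze⟩

end Hyp

end CfsgLib.HallEight
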