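import Cfsg.Agent.HallEight.Local
import Cfsg.Agent.HallEight.Eigen
import Cfsg.Agent.S0664
import Cfsg.Agent.QdFree.Basic
import Cfsg.Agent.PLocal.ZJTheorem
import Cfsg.Agent.PLocal.Thompson
import Cfsg.Agent.PLocal.PSolvable

/-!
# The two cases

* an eigen pair in the Sylow 7-subgroup of `W` kills `O_{7'}(M)`, and then `Z(J)` of a pair is
  normalised by `M` and by a swap;
* otherwise `S` centralises `W` and the two-point stabilisers have order 7 or are `7 × 7`.
-/

set_option autoImplicit false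
set_option linter.unusedSectionVars false
set_option linter.style.haveILetI false

namespace CfsgLib.HallEight

open Subgroup CfsgLib.Signalizer CfsgLib.SEmbed

variable {G : Type*} [Group G] [Finite G] {S : Sylow 2 G}

theorem prime_seven : Fact (Nat.Prime 7) := ⟨by norm_num⟩

theorem neg_one_ne_one_seven : ¬ (-1 : ZMod 7) = 1 := by decide

theorem quarter_turn_pow :
    (!![(0 : ZMod 7), 1, 0; -1, 0, 0; 0, 0, 1]) ^ 4 = 1 := by decide +kernel

theorem Pair.conj {R : Subgroup G} {b : G ⧸ M S} (hR : Pair S R b) {m : G} (hm : m ∈ M S) :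
    Pair S (R.map (MulAut.conj m).toMonoidHom) (m • b) := by
  have hma : m • base S = base S := smul_base_iff.2 hm
  have hma' : m⁻¹ • base S = base S := smul_base_iff.2 (inv_mem hm)
  refine ⟨fun e => hR.ne ?_, ?_, fun y hy => ?_, fun P hP hle hPM => ?_, ?_⟩
  · rw [← hma] at e; exact smul_left_cancel m e
  · ext x
    rw [mem_pairStab, mem_map_equiv, MulAut.conj_symm_apply, ← hR.eq, mem_pairStab, mul_smul,
      mul_smul, mul_smul, mul_smul, hma, inv_smul_eq_iff, inv_smul_eq_iff, hma]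
  · have h1 := hR.fix (m⁻¹ • y) fun r hr => by
      have := hy _ ⟨r, hr, rfl⟩
      rw [MulEquiv.coe_toMonoidHom, MulAut.conj_apply, mul_smul, mul_smul, smul_eq_iff_eq_inv_smul]
        at this
      exact this
    rcases h1 with e | e
    · exact Or.inl (by rw [← smul_inv_smul m y, e, hma])
    · exact Or.inr (by rw [← smul_inv_smul m y, e])
  · have h1 := hR.max (P.map (MulAut.conj m⁻¹).toMonoidHom) (hP.map _) ?_ ?_
    · rw [← h1]
      ext x
      simp [mem_map_equiv, mul_assoc]
    · intro r hr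
      exact ⟨m * r * m⁻¹, hle ⟨r, hr, rfl⟩, by simp [mul_assoc]⟩
    · rintro _ ⟨x, hx, rfl⟩
      simpa using mul_mem (mul_mem (inv_mem hm) (hPM hx)) hm
  · obtain ⟨u, hu, huo, hua⟩ := hR.swap
    refine ⟨m * u * m⁻¹, ?_, (CfsgLib.Small.orderOf_conj_eq m u).trans huo, ?_⟩
    · refine CfsgLib.Transfer.mem_normalizer_of_map_conj_eq ?_
      rw [CfsgLib.Transfer.map_conj_map_conj, show m * u * m⁻¹ * m = m * u by group,
        ← CfsgLib.Transfer.map_conj_map_conj, CfsgLib.Transfer.map_conj_eq_of_mem_normalizer hu]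
    · rw [mul_smul, mul_smul, hma', hua]

theorem Pair.le_M {R : Subgroup G} {b : G ⧸ M S} (hR : Pair S R b) : R ≤ M S :=
  hR.eq ▸ pairStab_le_M b

theorem Pair.smul_b {R : Subgroup G} {b : G ⧸ M S} (hR : Pair S R b) {r : G} (hr : r ∈ R) :
    r • b = b := by rw [← hR.eq] at hr; exact (mem_pairStab.1 hr).2

variable (h : Setting S)
include h

theorem Setting.isPGroup_pair {R : Subgroup G} {b : G ⧸ M S} (hR : Pair S R b) : IsPGroup 7 R :=
  hR.eq ▸ h.isPGroup_pairStab hR.ne

theorem Setting.odd_pair {R : Subgroup G} {b : G ⧸ M S} (hR : Pair S R b) : Odd (Nat.card R) :=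
  hR.eq ▸ odd_pairStab h.uniqueFix (Ne.symm hR.ne)

theorem Setting.pair_ne_bot {R : Subgroup G} {b : G ⧸ M S} (hR : Pair S R b) : R ≠ ⊥ := by
  obtain ⟨d, hd, hdW⟩ := h.exists_pairStab_notMem (Ne.symm hR.ne)
  intro e
  rw [hR.eq, e, mem_bot] at hd
  exact hdW (hd ▸ one_mem _)

theorem Setting.exists_point : ∃ y : G ⧸ M S, y ≠ base S := by
  haveI : Nontrivial (G ⧸ M S) := SEmbed.nontrivial_cosets h.stronglyEmbedded
  exact exists_ne _

/-- Every 7-subgroup of `M` lies in a pair. -/
theorem Setting.exists_pair_ge {P : Subgroup G} (hP : IsPGroup 7 P) (hPM : P ≤ M S) :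
    ∃ R b, Pair S R b ∧ P ≤ R := by
  haveI := prime_seven
  obtain ⟨y, hy⟩ := h.exists_point
  obtain ⟨R, b, hR, -⟩ := h.exists_pair hy
  obtain ⟨Q, hQ⟩ := (hP.comap_of_injective (M S).subtype (M S).subtype_injective).exists_le_sylow
  obtain ⟨Q₀, hQ₀⟩ := ((h.isPGroup_pair hR).comap_of_injective (M S).subtype
    (M S).subtype_injective).exists_le_sylow
  have hQ₀R : (Q₀ : Subgroup (M S)).map (M S).subtype = R :=
    hR.max _ (Q₀.isPGroup'.map _) (fun x hx => ⟨⟨x, hR.le_M hx⟩, hQ₀ hx, rfl⟩) (map_subtype_le _)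
  obtain ⟨m, hm⟩ := MulAction.exists_smul_eq (M S) Q₀ Q
  refine ⟨_, _, hR.conj m.2, fun x hx => ?_⟩
  have h1 : (⟨x, hPM hx⟩ : M S) ∈ (Q : Subgroup (M S)) := hQ hx
  rw [← hm, Sylow.coe_subgroup_smul] at h1
  obtain ⟨z, hz, hzx⟩ := h1
  exact ⟨z, hQ₀R ▸ ⟨z, hz, rfl⟩, congrArg Subtype.val hzx⟩

theorem Setting.isSolvable_M : Group.IsSolvable (M S) := by
  haveI : Fact (Nat.Prime 2) := ⟨Nat.prime_two⟩
  set N := normalizer ((S : Subgroup G) : Set G) with hN
  set S' := ((S : Subgroup G)).subgroupOf N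
  haveI : S'.Normal := normal_subgroupOf_of_le_normalizer le_rfl
  haveI : Group.IsSolvable S' := Group.isSolvable_of_comm fun a b =>
    Subtype.ext (Subtype.ext (h.commute a.2 b.2))
  haveI : Group.IsSolvable (N ⧸ S') := by
    refine Cfsg.Agent.S0205.result (Nat.not_even_iff_odd.1 fun he => ?_)
    have h2 : 2 ∣ (S : Subgroup G).relIndex N := he.two_dvd
    exact S.not_dvd_index (h2.trans (Dvd.intro _ (relIndex_mul_index (K := N) le_normalizer)))
  haveI : Group.IsSolvable N := Group.isSolvable_of_ker_le_range S'.subtype (QuotientGroup.mk' S')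
    (by rw [QuotientGroup.ker_mk', range_subtype])
  set W' := (W S).subgroupOf (M S)
  haveI : W'.Normal := normal_subgroupOf_of_le_normalizer h.M_le_normalizer
  haveI : Group.IsSolvable W' := Cfsg.Agent.S0205.result (by
    rw [Nat.card_congr (subgroupOfEquivOfLe (W_le_M (S := S))).toEquiv]; exact h.odd_W)
  haveI : Group.IsSolvable (M S ⧸ W') := by
    let f : N →* M S ⧸ W' := (QuotientGroup.mk' W').comp (inclusion normalizer_le_M)
    refine Group.isSolvable_of_surjective (f := f) fun q => ?_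
    obtain ⟨⟨x, hx⟩, rfl⟩ := QuotientGroup.mk_surjective q
    obtain ⟨w, hw, n, hn, rfl⟩ := h.exists_decomp hx
    refine ⟨⟨n, hn⟩, (QuotientGroup.eq.2 ?_)⟩
    show n⁻¹ * (w * n) ∈ W S
    simpa [mul_assoc] using h.conj_mem_W (inv_mem (normalizer_le_M hn)) hw
  exact Group.isSolvable_of_ker_le_range W'.subtype (QuotientGroup.mk' W')
    (by rw [QuotientGroup.ker_mk', range_subtype])

theorem Setting.not_involves_qd :
    ¬ ∃ (K R : Subgroup ↥(M S)) (_ : (R.subgroupOf K).Normal),
      Nonempty ((K ⧸ R.subgroupOf K) ≃* ↥(Cfsg.qd 7)) := by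
  haveI := prime_seven
  haveI : Fact (Nat.Prime 2) := ⟨Nat.prime_two⟩
  intro hinv
  obtain ⟨K, f, hf⟩ := CfsgLib.QdFree.exists_surjective_of_involves
    (G := ↥(M S)) (H := ↥(Cfsg.qd 7)) hinv
  set x : ↥(Cfsg.qd 7) := CfsgLib.QdFree.mkQd (0 : ZMod 7) 1 (-1) 0 0 0 (by ring)
  have hx2 : x ^ 2 ≠ 1 := by
    intro e
    have e' := congrArg CfsgLib.QdFree.block e
    rw [map_pow, map_one, CfsgLib.QdFree.block_mkQd, pow_two] at e'
    have e00 := congrArg (fun A : Matrix (Fin 2) (Fin 2) (ZMod 7) => A 0 0) e'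
    simp [Matrix.mul_apply, Fin.sum_univ_two] at e00
    exact neg_one_ne_one_seven e00
  have hx4 : x ^ 4 = 1 := by
    apply Subtype.ext
    apply Subtype.ext
    simp only [x, SubmonoidClass.coe_pow, Matrix.SpecialLinearGroup.coe_pow, CfsgLib.QdFree.val_mkQd,
      Subgroup.coe_one, Matrix.SpecialLinearGroup.coe_one]
    exact quarter_turn_pow
  obtain ⟨k, hk⟩ := hf x
  obtain ⟨e, m, hm, hem⟩ := Nat.exists_eq_two_pow_mul_odd (orderOf_pos k).ne'
  have hk2 : ((((k : K) : M S) : G) ^ m) ^ 2 ^ e = 1 := by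
    rw [← pow_mul, mul_comm, ← hem, ← SubmonoidClass.coe_pow, ← SubmonoidClass.coe_pow,
      pow_orderOf_eq_one]
    simp
  have h2 := h.two_elt_mul_self hk2
  have h3 : k ^ (m * 2) = 1 := by
    apply Subtype.ext
    apply Subtype.ext
    rw [SubmonoidClass.coe_pow, SubmonoidClass.coe_pow, pow_mul, pow_two, h2]
    simp
  have h4 : x ^ (m * 2) = 1 := by rw [← hk, ← map_pow, h3, map_one]
  obtain ⟨j, rfl⟩ := hm
  rw [show (2 * j + 1) * 2 = 4 * j + 2 by ring, pow_add, pow_mul, hx4, one_pow, one_mul] at h4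
  exact hx2 h4

/-- The normal subgroup of `7'`-order. -/
def Q7 (S : Sylow 2 G) : Subgroup G := (Cfsg.pPrimeCore 7 ↥(M S)).map (M S).subtype

theorem Setting.normalizer_zpowers_le {x : G} (hx1 : x ≠ 1) (ho : Odd (orderOf x)) {V : Subgroup G}
    (hV : IsFour V) (hVM : V ≤ M S) (hVx : V ≤ normalizer (zpowers x : Set G)) :
    normalizer (zpowers x : Set G) ≤ M S := by
  rw [← stabilizer_base]
  exact h.le_stabilizer_of_four (h.normalizer_ne_top (by rwa [Nat.card_zpowers])
    (zpowers_ne_bot.2 hx1)) hV hVx (hVM.trans (stabilizer_base (S := S)).ge)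

/-- Two elements of `S` acting on an eigen pair by scalars. -/
theorem Setting.exists_scalar_four {x y : G} (hxe : IsEigen (S : Subgroup G) x)
    (hye : IsEigen (S : Subgroup G) y) :
    ∃ V : Subgroup G, IsFour V ∧ V ≤ (S : Subgroup G) ∧ ∀ v ∈ V,
      (v * x * v⁻¹ = x ∧ v * y * v⁻¹ = y) ∨ (v * x * v⁻¹ = x⁻¹ ∧ v * y * v⁻¹ = y⁻¹) := by
  classical
  haveI := Fintype.ofFinite (S : Subgroup G)
  let good : G → Prop := fun v =>
    (v * x * v⁻¹ = x ∧ v * y * v⁻¹ = y) ∨ (v * x * v⁻¹ = x⁻¹ ∧ v * y * v⁻¹ = y⁻¹)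
  have hconj : ∀ a b z : G, (a * b) * z * (a * b)⁻¹ = a * (b * z * b⁻¹) * a⁻¹ := fun a b z => by group
  have hinv : ∀ a z : G, a * z⁻¹ * a⁻¹ = (a * z * a⁻¹)⁻¹ := fun a z => by group
  have hmul : ∀ a b : G, good a → good b → good (a * b) := by
    rintro a b (⟨a1, a2⟩ | ⟨a1, a2⟩) (⟨b1, b2⟩ | ⟨b1, b2⟩)
    · exact Or.inl ⟨by rw [hconj, b1, a1], by rw [hconj, b2, a2]⟩
    · exact Or.inr ⟨by rw [hconj, b1, hinv, a1], by rw [hconj, b2, hinv, a2]⟩
    · exact Or.inr ⟨by rw [hconj, b1, a1], by rw [hconj, b2, a2]⟩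
    · exact Or.inl ⟨by rw [hconj, b1, hinv, a1, inv_inv], by rw [hconj, b2, hinv, a2, inv_inv]⟩
  have hbad : ∀ a ∈ (S : Subgroup G), ∀ b ∈ (S : Subgroup G), ¬ good a → ¬ good b → good (a * b) := by
    intro a ha b hb hna hnb
    rcases hxe a ha with a1 | a1 <;> rcases hye a ha with a2 | a2 <;>
      rcases hxe b hb with b1 | b1 <;> rcases hye b hb with b2 | b2 <;>
      first
        | exact (hna (Or.inl ⟨a1, a2⟩)).elim
        | exact (hna (Or.inr ⟨a1, a2⟩)).elim
        | exact (hnb (Or.inl ⟨b1, b2⟩)).elim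
        | exact (hnb (Or.inr ⟨b1, b2⟩)).elim
        | (refine Or.inl ⟨?_, ?_⟩ <;>
            (simp only [hconj, hinv, a1, a2, b1, b2, inv_inv]; done))
        | (refine Or.inr ⟨?_, ?_⟩ <;>
            (simp only [hconj, hinv, a1, a2, b1, b2, inv_inv]; done))
  have hc : Fintype.card (S : Subgroup G) = 8 := by rw [← Nat.card_eq_fintype_card, h.card_eq]
  have hpick : ∀ L : Finset (S : Subgroup G), L.card < 8 → ∃ b, b ∉ L := fun L hL => by
    by_contra! hall
    have h1 : Fintype.card (S : Subgroup G) ≤ L.card := by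
      rw [← Finset.card_univ]; exact Finset.card_le_card fun z _ => hall z
    omega
  obtain ⟨a, ha⟩ := hpick {1} (by simp)
  obtain ⟨b, hb⟩ := hpick {1, a} (lt_of_le_of_lt Finset.card_le_two (by norm_num))
  obtain ⟨c, hc'⟩ := hpick {1, a, b, a * b} (lt_of_le_of_lt Finset.card_le_four (by norm_num))
  simp only [Finset.mem_insert, Finset.mem_singleton, not_or] at ha hb hc'
  obtain ⟨u, v, hu, hv, hu1, hv1, huv, hgu, hgv⟩ : ∃ u v : G, u ∈ (S : Subgroup G) ∧
      v ∈ (S : Subgroup G) ∧ u ≠ 1 ∧ v ≠ 1 ∧ u ≠ v ∧ good u ∧ good v := by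
    have hne : ∀ {p q : (S : Subgroup G)}, p ≠ q → (p : G) ≠ q := fun hpq e => hpq (Subtype.ext e)
    have hinj : ∀ {p q : (S : Subgroup G)}, (p : G) * q = 1 → q = p := fun {p q} e => by
      refine Subtype.ext ?_
      rw [← inv_eq_of_mul_eq_one_right e, h.inv_eq p.2]
    by_cases ga : good a <;> by_cases gb : good b
    · exact ⟨a, b, a.2, b.2, hne ha, hne hb.1, hne (Ne.symm hb.2), ga, gb⟩
    · by_cases gc : good c
      · exact ⟨a, c, a.2, c.2, hne ha, hne hc'.1, hne (Ne.symm hc'.2.1), ga, gc⟩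
      · exact ⟨a, b * c, a.2, mul_mem b.2 c.2, hne ha,
          fun e => hc'.2.2.1 (hinj e), fun e => hc'.2.2.2 (by
            refine Subtype.ext ?_
            rw [Subgroup.coe_mul, e, mul_assoc, h.commute c.2 b.2, ← mul_assoc, h.sq b b.2, one_mul]),
          ga, hbad b b.2 c c.2 gb gc⟩
    · by_cases gc : good c
      · exact ⟨b, c, b.2, c.2, hne hb.1, hne hc'.1, hne (Ne.symm hc'.2.2.1), gb, gc⟩
      · exact ⟨b, a * c, b.2, mul_mem a.2 c.2, hne hb.1,
          fun e => hc'.2.1 (hinj e), fun e => hc'.2.2.2 (by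
            refine Subtype.ext ?_
            rw [Subgroup.coe_mul, e, ← mul_assoc, h.sq a a.2, one_mul]),
          gb, hbad a a.2 c c.2 ga gc⟩
    · by_cases gc : good c
      · exact ⟨a * b, c, mul_mem a.2 b.2, c.2, fun e => hb.2 (hinj e), hne hc'.1,
          fun e => hc'.2.2.2 (Subtype.ext e.symm), hbad a a.2 b b.2 ga gb, gc⟩
      · exact ⟨a * b, a * c, mul_mem a.2 b.2, mul_mem a.2 c.2, fun e => hb.2 (hinj e),
          fun e => hc'.2.1 (hinj e),
          fun e => hc'.2.2.1 (Subtype.ext (mul_left_cancel e).symm), hbad a a.2 b b.2 ga gb,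
          hbad a a.2 c c.2 ga gc⟩
  refine ⟨closure {u, v}, isFour_closure_pair (h.orderOf_eq_two hu hu1) (h.orderOf_eq_two hv hv1) huv
    (h.commute hu hv), (closure_le _).2 (by rintro z (rfl | rfl) <;> assumption), fun z hz => ?_⟩
  induction hz using closure_induction with
  | mem z hz => rcases hz with rfl | rfl <;> assumption
  | one => left; simp
  | mul p q _ _ ihp ihq => exact hmul p q ihp ihq
  | inv p hp ihp =>
    rwa [h.inv_eq ((closure_le _).2 (show {u, v} ⊆ ((S : Subgroup G) : Set G) by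
      rintro z (rfl | rfl) <;> assumption) hp)]

/-- An eigen pair in `W` gives a contradiction. -/
theorem Setting.false_of_eigen_pair {x y : G} (hxW : x ∈ W S) (hyW : y ∈ W S) (hx : x ^ 7 = 1)
    (hy : y ^ 7 = 1) (hx1 : x ≠ 1) (hyx : y ∉ zpowers x) (hxy : x * y = y * x)
    (hxe : IsEigen (S : Subgroup G) x) (hye : IsEigen (S : Subgroup G) y) : False := by
  classical
  haveI := prime_seven
  haveI : Fact (Nat.Prime 2) := ⟨Nat.prime_two⟩
  set E := closure ({x, y} : Set G) with hE
  haveI hEc : IsMulCommutative E := isMulCommutative_closure (by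
    rintro p (rfl | rfl) q (rfl | rfl)
    exacts [rfl, hxy, hxy.symm, rfl])
  have hE7 : ∀ e ∈ E, e ^ 7 = 1 := by
    intro e he
    induction he using closure_induction with
    | mem z hz => rcases hz with rfl | rfl <;> assumption
    | one => simp
    | mul a b ha hb iha ihb =>
      rw [(show Commute a b from congrArg Subtype.val
        (hEc.is_comm.comm ⟨a, ha⟩ ⟨b, hb⟩)).mul_pow, iha, ihb, one_mul]
    | inv a _ iha => rw [inv_pow, iha, inv_one]
  have hEp : IsPGroup 7 E := fun e => ⟨1, Subtype.ext (by simpa using hE7 e e.2)⟩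
  have hEW : E ≤ W S := (closure_le _).2 (by rintro z (rfl | rfl) <;> assumption)
  have hEnc : ¬ IsCyclic E := by
    intro hcyc
    have hxE : x ∈ E := subset_closure (Or.inl rfl)
    have hyE : y ∈ E := subset_closure (Or.inr rfl)
    obtain ⟨g, hg⟩ := IsCyclic.exists_generator (α := E)
    have hg7 : orderOf g ∣ 7 := orderOf_dvd_of_pow_eq_one (Subtype.ext (by simpa using hE7 g g.2))
    have hcard : Nat.card E ≤ Nat.card (zpowers x) := by
      rw [← orderOf_eq_card_of_forall_mem_zpowers hg, Nat.card_zpowers, orderOf_eq_prime hx hx1]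
      exact Nat.le_of_dvd (by norm_num) hg7
    exact hyx ((eq_of_le_of_card_ge (zpowers_le.2 hxE) hcard).symm ▸ hyE)
  obtain ⟨V, hV, hVS, hVsc⟩ := h.exists_scalar_four hxe hye
  have hVe : ∀ e ∈ E, e ≠ 1 → centralizer ({e} : Set G) ≤ M S := by
    intro e he he1
    have hsc : ∀ v ∈ V, v * e * v⁻¹ = e ∨ v * e * v⁻¹ = e⁻¹ := by
      intro v hv
      rcases hVsc v hv with ⟨v1, v2⟩ | ⟨v1, v2⟩
      · left
        induction he using closure_induction with
        | mem z hz => rcases hz with rfl | rfl <;> assumption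
        | one => simp
        | mul a b _ _ iha ihb =>
          rw [show v * (a * b) * v⁻¹ = (v * a * v⁻¹) * (v * b * v⁻¹) by group]
          by_cases ha1 : a = 1
          · rw [ha1, mul_one, mul_inv_cancel, one_mul, one_mul]
            exact ihb (by simpa [ha1] using he1)
          by_cases hb1 : b = 1
          · rw [hb1, mul_one, mul_inv_cancel, mul_one, mul_one]
            exact iha ha1
          rw [iha ha1, ihb hb1]
        | inv a _ iha =>
          rw [show v * a⁻¹ * v⁻¹ = (v * a * v⁻¹)⁻¹ by group, iha (inv_ne_one.1 he1)]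
      · right
        induction he using closure_induction with
        | mem z hz => rcases hz with rfl | rfl <;> assumption
        | one => simp
        | mul a b ha hb iha ihb =>
          rw [show v * (a * b) * v⁻¹ = (v * a * v⁻¹) * (v * b * v⁻¹) by group, mul_inv_rev]
          by_cases ha1 : a = 1
          · rw [ha1, mul_one, mul_inv_cancel, inv_one, one_mul, mul_one]
            exact ihb (by simpa [ha1] using he1)
          by_cases hb1 : b = 1
          · rw [hb1, mul_one, mul_inv_cancel, inv_one, mul_one, one_mul]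
            exact iha ha1
          rw [iha ha1, ihb hb1]
          exact congrArg Subtype.val (hEc.is_comm.comm (⟨a, ha⟩⁻¹ : E) (⟨b, hb⟩⁻¹ : E))
        | inv a _ iha =>
          rw [show v * a⁻¹ * v⁻¹ = (v * a * v⁻¹)⁻¹ by group, iha (inv_ne_one.1 he1)]
    have hN := h.normalizer_zpowers_le he1
      ((show Odd 7 by decide).of_dvd_nat (orderOf_dvd_of_pow_eq_one (hE7 e he))) hV (hVS.trans le_M)
      fun v hv => CfsgLib.Transfer.mem_normalizer_of_map_conj_eq (by
        rw [MonoidHom.map_zpowers]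
        rcases hsc v hv with e' | e'
        · simp only [MulEquiv.coe_toMonoidHom, MulAut.conj_apply, e']
        · simp only [MulEquiv.coe_toMonoidHom, MulAut.conj_apply, e', zpowers_inv])
    refine le_trans ?_ hN
    rw [← centralizer_closure, ← zpowers_eq_closure]
    exact centralizer_le_normalizer _
  obtain ⟨R, b, hR, hER⟩ := h.exists_pair_ge hEp (hEW.trans W_le_M)
  obtain ⟨u, huR, huo, hub⟩ := hR.swap
  have hQn : M S ≤ normalizer (Q7 S : Set G) :=
    le_normalizer.trans (CfsgLib.Components.normalizer_le_normalizer_map_subtype (M S) _)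
  have hQcop : (Nat.card (Q7 S)).Coprime 7 :=
    Nat.Coprime.coprime_dvd_left (card_map_dvd _ _) (CfsgLib.PLocal.coprime_card_pPrimeCore 7 _)
  -- the core of the other point
  set Q' := (Q7 S).map (MulAut.conj u).toMonoidHom with hQ'
  have hstab : ∀ r ∈ R, u⁻¹ * r * u ∈ M S := fun r hr => by
    have := hR.smul_b hr
    rwa [← hub, smul_fix_iff, smul_base_iff] at this
  have hQ'bot : Q' ≤ ⊥ := by
    refine CfsgLib.Coprime.le_of_forall_inf_centralizer_le hEnc ?_ ?_ fun e he he1 => ?_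
    · intro e he
      refine CfsgLib.Transfer.mem_normalizer_of_map_conj_eq ?_
      rw [hQ', CfsgLib.Transfer.map_conj_map_conj, show e * u = u * (u⁻¹ * e * u) by group,
        ← CfsgLib.Transfer.map_conj_map_conj,
        CfsgLib.Transfer.map_conj_eq_of_mem_normalizer (hQn (hstab e (hER he)))]
    · obtain ⟨k, hk⟩ := IsPGroup.iff_card.1 hEp
      rw [hk, hQ', card_map_of_injective (MulAut.conj u).injective]
      exact hQcop.symm.pow_left k
    · intro z hz
      obtain ⟨q, hq, hqz⟩ := hz.1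
      have hzR : z ∈ R := by
        rw [← hR.eq, mem_pairStab]
        refine ⟨smul_base_iff.2 (hVe e he he1 hz.2), ?_⟩
        rw [← hub, smul_fix_iff, smul_base_iff, ← hqz]
        simpa [mul_assoc] using (map_subtype_le _ hq : q ∈ M S)
      obtain ⟨k, hk⟩ := IsPGroup.iff_orderOf.1 (h.isPGroup_pair hR) ⟨z, hzR⟩
      rw [orderOf_mk] at hk
      have hd : orderOf z ∣ Nat.card (Q7 S) := by
        rw [← hqz, MulEquiv.coe_toMonoidHom, MulEquiv.orderOf_eq]
        exact orderOf_dvd_natCard _ hq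
      rw [mem_bot, ← orderOf_eq_one_iff]
      exact Nat.eq_one_of_dvd_coprimes (hQcop.pow_right k) hd (hk ▸ dvd_rfl)
  have hO : Cfsg.pPrimeCore 7 ↥(M S) = ⊥ := by
    have h1 : Q7 S = ⊥ := by
      rw [le_bot_iff, hQ', map_eq_bot_iff_of_injective _ (MulAut.conj u).injective] at hQ'bot
      exact hQ'bot
    exact (map_eq_bot_iff_of_injective _ (M S).subtype_injective).1 h1
  haveI := h.isSolvable_M
  have hc := CfsgLib.PLocal.centralizer_pCore_le (p := 7) (G := ↥(M S))
    CfsgLib.PLocal.isPSolvable_of_isSolvable hO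
  obtain ⟨P, hP⟩ := ((h.isPGroup_pair hR).comap_of_injective (M S).subtype
    (M S).subtype_injective).exists_le_sylow
  have hPR : (P : Subgroup (M S)).map (M S).subtype = R :=
    hR.max _ (P.isPGroup'.map _) (fun x hx => ⟨⟨x, hR.le_M hx⟩, hP hx, rfl⟩) (map_subtype_le _)
  have hZn := Cfsg.Agent.S0664.result (by norm_num) h.not_involves_qd hc P
  set Z := Cfsg.centerThompsonAOf R with hZ
  have hMZ : M S ≤ normalizer (Z : Set G) := by
    rw [hZ, ← hPR, ← CfsgLib.PLocal.map_centerThompsonAOf (M S).subtype_injective]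
    haveI := hZn
    refine le_trans ?_ (le_normalizer_map (M S).subtype)
    rw [normalizer_eq_top, ← MonoidHom.range_eq_map, range_subtype]
  have hZne : Z ≠ ⊥ :=
    CfsgLib.PLocal.centerThompsonAOf_ne_bot (h.isPGroup_pair hR) (h.pair_ne_bot hR)
  have hle := h.normalizer_le_M_of_eight
    ((h.odd_pair hR).of_dvd_nat (card_dvd_of_le (CfsgLib.PLocal.centerThompsonAOf_le R))) hZne le_rfl
    hMZ (h.card_eq ▸ card_dvd_of_le le_M)
  have := hle (CfsgLib.PLocal.normalizer_le_normalizer_centerThompsonAOf R huR)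
  rw [← smul_base_iff, hub] at this
  exact hR.ne this

end CfsgLib.HallEight
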