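import Cfsg.Agent.HallEight.Cases

/-!
# `S` centralises `W`, and the two-point stabilisers have order seven
-/

set_option autoImplicit false
set_option linter.unusedSectionVars false
set_option linter.style.haveILetI false

namespace CfsgLib.HallEight

open Subgroup CfsgLib.Signalizer CfsgLib.SEmbed

variable {G : Type*} [Group G] [Finite G] {S : Sylow 2 G}

/-- For `N` normal, `|N : N ∩ C|` divides the index of `C`. -/
theorem relIndex_dvd_index_of_normal {X : Type*} [Group X] [Finite X] (C N : Subgroup X) [N.Normal] :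
    C.relIndex N ∣ C.index := by
  have h1 := CfsgLib.PLocal.card_mul_relIndex (le_sup_right (a := C) (b := N))
  rw [relIndex_sup_right] at h1
  have h2 := CfsgLib.PLocal.card_mul_relIndex (inf_le_left (a := C) (b := N))
  have h3 := CfsgLib.PLocal.card_mul_relIndex (inf_le_right (a := C) (b := N))
  rw [inf_relIndex_left] at h2
  rw [inf_relIndex_right] at h3
  have h4 : Nat.card C * C.relIndex N = Nat.card ↥(C ⊔ N) := by
    rw [← h1, ← h2, ← h3]; ring
  have h5 : Nat.card ↥(C ⊔ N) ∣ Nat.card C * C.index := by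
    rw [card_mul_index]; exact card_subgroup_dvd_card _
  rw [← h4] at h5
  exact Nat.dvd_of_mul_dvd_mul_left Nat.card_pos h5

variable (h : Setting S)
include h

/-- `|W : C_W(s)|` is a power of seven. -/
theorem Setting.relIndex_pow_seven {s : G} (hs : s ∈ (S : Subgroup G)) (hs1 : s ≠ 1) :
    ∃ k, (centralizer ({s} : Set G)).relIndex (W S) ∣ 7 ^ k := by
  haveI := prime_seven
  obtain ⟨y, hy⟩ := h.exists_point
  set C := centralizer ({s} : Set G) with hC
  set D := pairStab G (base S) y with hD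
  obtain ⟨k, hk⟩ := IsPGroup.iff_card.1 (h.isPGroup_pairStab hy)
  refine ⟨k, ?_⟩
  have hDM : D ≤ M S := pairStab_le_M y
  haveI : ((W S).subgroupOf (M S)).Normal := normal_subgroupOf_of_le_normalizer h.M_le_normalizer
  have h1 : C.relIndex (W S) ∣ (C.subgroupOf (M S)).index := by
    have := relIndex_dvd_index_of_normal (C.subgroupOf (M S)) ((W S).subgroupOf (M S))
    rwa [relIndex_subgroupOf W_le_M] at this
  refine h1.trans ?_
  rw [← hk]
  -- `M = D C`
  let f : D ⧸ C.subgroupOf D → M S ⧸ C.subgroupOf (M S) :=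
    Quotient.map' (fun d => ⟨(d : G), hDM d.2⟩) fun a b hab => by
      rw [QuotientGroup.leftRel_apply] at hab ⊢
      exact hab
  have hf : Function.Surjective f := by
    intro q
    obtain ⟨⟨m, hm⟩, rfl⟩ := QuotientGroup.mk_surjective q
    have hm2 : orderOf (m * s * m⁻¹) = 2 :=
      (CfsgLib.Small.orderOf_conj_eq m s).trans (h.orderOf_eq_two hs hs1)
    obtain ⟨d, hd, hds⟩ := exists_conj_fix h.uniqueFix (Ne.symm hy) (s := s) (t := m * s * m⁻¹)
      ⟨h.orderOf_eq_two hs hs1, smul_base_iff.2 (le_M hs)⟩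
      ⟨hm2, smul_base_iff.2 (mul_mem (mul_mem hm (le_M hs)) (inv_mem hm))⟩
    refine ⟨QuotientGroup.mk ⟨d, hd⟩, ?_⟩
    refine QuotientGroup.eq.2 ?_
    show d⁻¹ * m ∈ C
    rw [hC, mem_centralizer_singleton_iff]
    calc d⁻¹ * m * s = d⁻¹ * (m * s * m⁻¹) * m := by group
      _ = d⁻¹ * (d * s * d⁻¹) * m := by rw [hds]
      _ = _ := by group
  have hinj : Function.Injective f := by
    intro a b e
    obtain ⟨a, rfl⟩ := QuotientGroup.mk_surjective a
    obtain ⟨b, rfl⟩ := QuotientGroup.mk_surjective b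
    exact QuotientGroup.eq.2 (QuotientGroup.eq.1 e : (⟨(a : G), hDM a.2⟩ : M S)⁻¹ * ⟨b, hDM b.2⟩ ∈ C.subgroupOf (M S))
  rw [index_eq_card, ← Nat.card_eq_of_bijective f ⟨hinj, hf⟩, ← index_eq_card]
  exact index_dvd_card _

theorem Setting.W_le_centralizer : W S ≤ centralizer ((S : Subgroup G) : Set G) := by
  haveI := prime_seven
  haveI : Fact (Nat.Prime 2) := ⟨Nat.prime_two⟩
  obtain ⟨P, hP⟩ := CfsgLib.Coprime.exists_invariant_sylow h.sylow_le_normalizer (by
    rw [h.card_eq, show (8 : ℕ) = 2 ^ 3 by norm_num]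
    exact (Nat.coprime_two_left.2 h.odd_W).pow_left 3)
    (Or.inr (Cfsg.Agent.S0205.result h.odd_W)) 7
  set T := (P : Subgroup (W S)).map (W S).subtype
  rcases h.exists_eigen_pair_or_centralizes (p := 7) (by norm_num) (P.isPGroup'.map (W S).subtype) hP with
    ⟨x, y, hx, hy, hx7, hy7, hyx, hx1, hxy, hxe, hye⟩ | ⟨s, hs, hs1, hTs⟩
  · exact (h.false_of_eigen_pair (map_subtype_le _ hx) (map_subtype_le _ hy) hx7 hy7 hx1 hyx hxy hxe
      hye).elim
  obtain ⟨k, hk⟩ := h.relIndex_pow_seven hs hs1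
  have h7 : ¬ 7 ∣ (centralizer ({s} : Set G)).relIndex (W S) := by
    intro hd
    have h1 : (centralizer ({s} : Set G)).relIndex (W S) ∣ T.relIndex (W S) :=
      relIndex_dvd_of_le_left (W S) hTs
    have h2 : T.relIndex (W S) = (P : Subgroup (W S)).index := by
      rw [Subgroup.relIndex]
      congr 1
      exact comap_map_eq_self_of_injective (W S).subtype_injective _
    exact P.not_dvd_index ((hd.trans h1).trans (h2 ▸ dvd_rfl))
  have hone : (centralizer ({s} : Set G)).relIndex (W S) = 1 :=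
    Nat.eq_one_of_dvd_coprimes (((Nat.Prime.coprime_iff_not_dvd (Fact.out : Nat.Prime 7)).2 h7).symm.pow_right k)
      dvd_rfl hk
  have hWs : W S ≤ centralizer ({s} : Set G) := relIndex_eq_one.1 hone
  intro w hw
  rw [mem_centralizer_iff]
  intro t ht
  by_cases ht1 : t = 1
  · rw [ht1, one_mul, mul_one]
  obtain ⟨n, hn, hnst⟩ := h.exists_conj_invol hs hs1 ht ht1
  have h1 := mem_centralizer_singleton_iff.1
    (hWs (h.conj_mem_W (inv_mem (normalizer_le_M hn)) hw))
  rw [inv_inv] at h1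
  calc t * w = n * (s * (n⁻¹ * w * n)) * n⁻¹ := by rw [← hnst]; group
    _ = n * ((n⁻¹ * w * n) * s) * n⁻¹ := by rw [h1]
    _ = w * t := by rw [← hnst]; group

theorem Setting.centralizer_le_stabilizer_of_mem_W {x : G} (hx : x ∈ W S) (hx1 : x ≠ 1) :
    centralizer ({x} : Set G) ≤ M S := by
  have hne : centralizer ({x} : Set G) ≠ ⊤ := by
    intro he
    refine h.normalizer_ne_top (R := zpowers x) ?_ (zpowers_ne_bot.2 hx1) (top_le_iff.1 ?_)
    · rw [Nat.card_zpowers]; exact h.odd_W.of_dvd_nat (orderOf_dvd_natCard _ hx)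
    · rw [← he, ← centralizer_closure, ← zpowers_eq_closure]
      exact centralizer_le_normalizer _
  rw [← stabilizer_base]
  exact h.le_stabilizer_of_sylow hne S
    (fun s hs => mem_centralizer_singleton_iff.2
      ((mem_centralizer_iff.1 (h.W_le_centralizer hx)) s hs))
    (le_M.trans (stabilizer_base (S := S)).ge)

/-- An element of `W` and its image under a swap are not both in `W`. -/
theorem Setting.eq_one_of_swap {u x : G} {b : G ⧸ M S} (hb : b ≠ base S) (hub : u • base S = b)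
    (hx : x ∈ W S) (hux : u * x * u⁻¹ ∈ W S) : x = 1 := by
  by_contra hx1
  obtain ⟨s, hs, hs1⟩ := h.exists_invol
  have hmem : u * s * u⁻¹ ∈ centralizer ({u * x * u⁻¹} : Set G) := by
    rw [mem_centralizer_singleton_iff]
    have := (mem_centralizer_iff.1 (h.W_le_centralizer hx)) s hs
    calc u * s * u⁻¹ * (u * x * u⁻¹) = u * (s * x) * u⁻¹ := by group
      _ = u * (x * s) * u⁻¹ := by rw [this]
      _ = _ := by group
  have h1 := h.centralizer_le_stabilizer_of_mem_W hux (fun e => hx1 (conj_eq_one_iff.1 e)) hmem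
  refine hb (h.uniqueFix.unique (u * s * u⁻¹)
    ((CfsgLib.Small.orderOf_conj_eq u s).trans (h.orderOf_eq_two hs hs1)) b (base S) ?_
    (smul_base_iff.2 h1))
  rw [← hub, smul_fix_iff, show u⁻¹ * (u * s * u⁻¹) * u = s by group]
  exact smul_base_iff.2 (le_M hs)

theorem Setting.card_le_seven_mul {R : Subgroup G} {b : G ⧸ M S} (hR : Pair S R b) :
    (W S).relIndex R ≤ 7 := by
  classical
  obtain ⟨t, ht, ht1⟩ := h.exists_invol
  haveI := Fintype.ofFinite (S : Subgroup G)
  have hex : ∀ r : R, ∃ σ : {z : (S : Subgroup G) // z ≠ 1},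
      (r : G) * t * (r : G)⁻¹ * ((σ.1 : (S : Subgroup G)) : G)⁻¹ ∈ W S := by
    intro r
    obtain ⟨w, hw, n, hn, hwn⟩ := h.exists_decomp (hR.le_M r.2)
    exact ⟨⟨⟨n * t * n⁻¹, (mem_normalizer_iff.1 hn t).1 ht⟩,
      fun e => ht1 (conj_eq_one_iff.1 (congrArg Subtype.val e))⟩, hwn ▸ h.conj_mod hw hn ht⟩
  choose σ hσ using hex
  let g : R ⧸ (W S).subgroupOf R → {z : (S : Subgroup G) // z ≠ 1} := fun q => σ q.out
  have hg : Function.Injective g := by
    intro a c e
    rw [← QuotientGroup.out_eq' a, ← QuotientGroup.out_eq' c, QuotientGroup.eq, mem_subgroupOf]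
    set r := a.out
    set r' := c.out
    have e' : σ r = σ r' := e
    have h1 := hσ r
    rw [e'] at h1
    have h2 := mul_mem h1 (inv_mem (hσ r'))
    rw [show ∀ A B z : G, A * z⁻¹ * (B * z⁻¹)⁻¹ = A * B⁻¹ from fun A B z => by group] at h2
    have hrM := hR.le_M r.2
    have hr'M := hR.le_M r'.2
    have h3 : ((r' : G)⁻¹ * r) * t * ((r' : G)⁻¹ * r)⁻¹ * t⁻¹ ∈ W S := by
      have h4 := h.conj_mem_W (inv_mem hr'M) h2
      rwa [show (r' : G)⁻¹ * ((r : G) * t * (r : G)⁻¹ * ((r' : G) * t * (r' : G)⁻¹)⁻¹) * (r' : G)⁻¹⁻¹ =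
        ((r' : G)⁻¹ * r) * t * ((r' : G)⁻¹ * r)⁻¹ * t⁻¹ by group] at h4
    have h5 := h.mem_W_of_commute_mod (mul_mem (inv_mem hr'M) hrM)
      ((h.odd_pair hR).of_dvd_nat (orderOf_dvd_natCard R (mul_mem (inv_mem r'.2) r.2))) ht ht1 h3
    simpa using inv_mem h5
  have h1 := Nat.card_le_card_of_injective g hg
  rw [← index_eq_card] at h1
  refine le_trans h1 (le_of_eq ?_)
  rw [Nat.card_eq_fintype_card, Fintype.card_subtype_compl, Fintype.card_subtype_eq,
    ← Nat.card_eq_fintype_card, h.card_eq]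

/-- A pair has order seven. -/
theorem Setting.card_pair {R : Subgroup G} {b : G ⧸ M S} (hR : Pair S R b) : Nat.card R = 7 := by
  haveI := prime_seven
  haveI : Fact (Nat.Prime 2) := ⟨Nat.prime_two⟩
  obtain ⟨u, huR, huo, hub⟩ := hR.swap
  obtain ⟨e, he⟩ := IsPGroup.iff_card.1 (h.isPGroup_pair hR)
  set T := R ⊓ W S with hT
  have hR1 : 1 ≤ e := by
    rcases e with _ | e
    · exact absurd (eq_bot_of_card_eq _ (by rw [he, pow_zero])) (h.pair_ne_bot hR)
    · omega
  have hidx : Nat.card R ≤ 7 * Nat.card T := by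
    have h1 := CfsgLib.PLocal.card_mul_relIndex (inf_le_left : T ≤ R)
    rw [show T.relIndex R = (W S).relIndex R from inf_relIndex_left _ _] at h1
    rw [← h1, mul_comm (7 : ℕ)]
    exact Nat.mul_le_mul_left _ (h.card_le_seven_mul hR)
  by_cases hT1 : T = ⊥
  · rw [hT1, card_bot, mul_one, he] at hidx
    have : e ≤ 1 := by
      by_contra hlt
      have := Nat.pow_le_pow_right (show 7 > 0 by norm_num) (show 2 ≤ e by omega)
      omega
    rw [he, show e = 1 by omega, pow_one]
  exfalso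
  set T' := T.map (MulAut.conj u).toMonoidHom with hT'
  have hT'R : T' ≤ R := by
    rintro _ ⟨x, hx, rfl⟩
    exact (mem_normalizer_iff.1 huR x).1 hx.1
  have hdisj : T ⊓ T' = ⊥ := by
    rw [eq_bot_iff]
    rintro z ⟨hz, x, hx, rfl⟩
    rw [mem_bot, h.eq_one_of_swap hR.ne hub hx.2 hz.2, map_one]
  have hnorm : R ≤ normalizer (T : Set G) :=
    (le_inf le_normalizer (hR.le_M.trans h.M_le_normalizer)).trans inf_normalizer_le_normalizer_inf
  have hc' : Nat.card T' = Nat.card T := card_map_of_injective (MulAut.conj u).injective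
  have hsq : Nat.card T * Nat.card T ≤ Nat.card R := by
    calc Nat.card T * Nat.card T = Nat.card T * Nat.card T' := by rw [hc']
      _ = Nat.card ↥(T ⊔ T') := (CfsgLib.Coprime.card_sup_eq (hT'R.trans hnorm) hdisj).symm
      _ ≤ Nat.card R := card_le_of_le (sup_le inf_le_left hT'R)
  obtain ⟨j, hj⟩ := IsPGroup.iff_card.1 ((h.isPGroup_pair hR).to_le (inf_le_left : T ≤ R))
  have hj1 : 1 ≤ j := by
    rcases j with _ | j
    · exact absurd (eq_bot_of_card_eq _ (by rw [hj, pow_zero])) hT1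
    · omega
  have hj2 : j = 1 := by
    by_contra hne
    have h2 := Nat.pow_le_pow_right (show 7 > 0 by norm_num) (show 2 ≤ j by omega)
    have h3 : Nat.card T * Nat.card T ≤ 7 * Nat.card T := hsq.trans hidx
    have h4 := Nat.le_of_mul_le_mul_right h3 Nat.card_pos
    rw [hj] at h4
    omega
  have he2 : e = 2 := by
    rw [hj, hj2, pow_one, he] at hsq hidx
    rcases e with _ | _ | _ | e
    · omega
    · norm_num at hsq
    · rfl
    · have := Nat.pow_le_pow_right (show 7 > 0 by norm_num) (show 3 ≤ e + 3 by omega)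
      omega
  have hcomm : ∀ a ∈ R, ∀ c ∈ R, a * c = c * a := fun a ha c hc =>
    congrArg Subtype.val (IsPGroup.commutative_of_card_eq_prime_sq (p := 7) (he2 ▸ he) ⟨a, ha⟩ ⟨c, hc⟩)
  -- elements of `N(R)` fix or exchange the two points
  have hab : u • b = base S := by
    rw [← hub, smul_smul, ← pow_two, ← huo, pow_orderOf_eq_one, one_smul]
  have hNR : ∀ g ∈ normalizer (R : Set G), g ∈ R ∨ u * g ∈ R := by
    intro g hg
    have hfix : ∀ c : G ⧸ M S, c = base S ∨ c = b → g • c = base S ∨ g • c = b := by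
      intro c hc
      refine hR.fix _ fun r hr => ?_
      rw [smul_fix_iff]
      have hr' : g⁻¹ * r * g ∈ R := (mem_normalizer_iff''.1 hg r).1 hr
      rw [← hR.eq, mem_pairStab] at hr'
      rcases hc with rfl | rfl
      exacts [hr'.1, hr'.2]
    rcases hfix (base S) (Or.inl rfl) with e1 | e1
    · left
      rw [← hR.eq, mem_pairStab]
      refine ⟨e1, ?_⟩
      rcases hfix b (Or.inr rfl) with e2 | e2
      · exact absurd (smul_left_cancel g (e2.trans e1.symm)) hR.ne
      · exact e2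
    · right
      rw [← hR.eq, mem_pairStab]
      refine ⟨by rw [mul_smul, e1, hab], ?_⟩
      rcases hfix b (Or.inr rfl) with e2 | e2
      · rw [mul_smul, e2, hub]
      · exact absurd (smul_left_cancel g (e2.trans e1.symm)) hR.ne
  -- `R` is a Sylow 7-subgroup of `G`
  obtain ⟨P, hPR⟩ := (h.isPGroup_pair hR).exists_le_sylow
  have hPeq : (P : Subgroup G) = R := by
    refine (le_antisymm ?_ hPR)
    by_contra hlt
    haveI : Group.IsNilpotent (P : Subgroup G) := P.isPGroup'.isNilpotent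
    have hne : R.subgroupOf (P : Subgroup G) < normalizer (R.subgroupOf (P : Subgroup G) : Set (P : Subgroup G)) :=
      Group.normalizerCondition_of_isNilpotent _
        (lt_top_iff_ne_top.2 fun e => hlt (subgroupOf_eq_top.1 e))
    obtain ⟨g, hg, hgR⟩ := SetLike.exists_of_lt hne
    have hgN : (g : G) ∈ normalizer (R : Set G) := by
      rw [mem_normalizer_iff]
      intro z
      constructor
      · intro hz
        exact (mem_normalizer_iff.1 hg ⟨z, hPR hz⟩).1 hz
      · intro hz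
        have hzP : z ∈ (P : Subgroup G) := by
          have := mul_mem (mul_mem (inv_mem g.2) (hPR hz)) g.2
          simpa [mul_assoc] using this
        exact (mem_normalizer_iff.1 hg ⟨z, hzP⟩).2 hz
    rcases hNR g hgN with h1 | h1
    · exact hgR h1
    · have huP : u ∈ (P : Subgroup G) := by
        have := mul_mem (hPR h1) (inv_mem g.2)
        rwa [mul_inv_cancel_right] at this
      obtain ⟨k, hk⟩ := IsPGroup.iff_orderOf.1 P.isPGroup' ⟨u, huP⟩
      rw [orderOf_mk, huo] at hk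
      rcases k with _ | k
      · norm_num at hk
      · have : 7 ≤ 7 ^ (k + 1) := Nat.le_self_pow (by omega) 7
        omega
  obtain ⟨x, hxT, hx1⟩ := T.bot_or_exists_ne_one.resolve_left hT1
  let z : G := x * (u * x * u⁻¹)
  have hxR : x ∈ R := hxT.1
  have hx'R : u * x * u⁻¹ ∈ R := (mem_normalizer_iff.1 huR x).1 hxR
  have hzR : z ∈ R := mul_mem hxR hx'R
  have huu : u * u = 1 := by rw [← pow_two, ← huo, pow_orderOf_eq_one]
  have hzu : u * z * u⁻¹ = z := by
    have e1 : u * z * u⁻¹ = (u * x * u⁻¹) * ((u * u) * x * (u * u)⁻¹) := by simp only [z]; group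
    rw [e1, huu, one_mul, inv_one, mul_one]
    exact hcomm _ hx'R _ hxR
  have hz1 : z ≠ 1 := by
    intro e0
    have e1 : u * x * u⁻¹ = x⁻¹ := eq_inv_of_mul_eq_one_right e0
    exact hx1 (h.eq_one_of_swap hR.ne hub hxT.2 (e1 ▸ inv_mem hxT.2))
  have hNz : ∀ g ∈ normalizer (R : Set G), ∀ k : ℕ, g⁻¹ * z ^ k * g = z ^ k := by
    intro g hg k
    have hzk : u * z ^ k * u⁻¹ = z ^ k := by rw [← conj_pow, hzu]
    rcases hNR g hg with h1 | h1
    · rw [mul_assoc, hcomm _ (pow_mem hzR k) _ h1, inv_mul_cancel_left]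
    · calc g⁻¹ * z ^ k * g = (u * g)⁻¹ * (u * z ^ k * u⁻¹) * (u * g) := by group
        _ = (u * g)⁻¹ * z ^ k * (u * g) := by rw [hzk]
        _ = z ^ k := by rw [mul_assoc, hcomm _ (pow_mem hzR k) _ h1, inv_mul_cancel_left]
  haveI : (P : Subgroup G).FiniteIndex := inferInstance
  have hcommP : ∀ a b : (P : Subgroup G), a * b = b * a := fun a c =>
    Subtype.ext (hcomm a (hPeq ▸ a.2) c (hPeq ▸ c.2))
  letI : CommGroup (P : Subgroup G) := { (inferInstance : Group (P : Subgroup G)) with mul_comm := hcommP }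
  have hkey : ∀ (k : ℕ) (g₀ : G), g₀⁻¹ * z ^ k * g₀ ∈ (P : Subgroup G) →
      g₀⁻¹ * z ^ k * g₀ = z ^ k := by
    intro k g₀ hg₀
    have hcent : ∀ y ∈ (P : Subgroup G), y ∈ centralizer ((P : Subgroup G) : Set G) := fun y hy =>
      mem_centralizer_iff.2 fun a ha => hcomm a (hPeq ▸ ha) y (hPeq ▸ hy)
    obtain ⟨n, hn, hnz⟩ := Sylow.conj_eq_normalizer_conj_of_mem_centralizer P (z ^ k) g₀
      (hcent _ (hPeq.symm ▸ pow_mem hzR k)) (hcent _ hg₀)
    rw [hnz]
    exact hNz n (by rw [← hPeq]; exact hn) k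
  let φ : G →* (P : Subgroup G) := MonoidHom.transfer (MonoidHom.id (P : Subgroup G))
  have hφ : (φ z : G) = z ^ (P : Subgroup G).index := by
    simp only [φ, MonoidHom.transfer_eq_pow (MonoidHom.id (P : Subgroup G)) z hkey]
    rfl
  have hker : φ.ker ≠ ⊤ := by
    intro e
    have h1 : φ z = 1 := MonoidHom.mem_ker.1 (e ▸ mem_top z)
    rw [h1, OneMemClass.coe_one] at hφ
    have h2 : orderOf z ∣ (P : Subgroup G).index := orderOf_dvd_of_pow_eq_one hφ.symm
    obtain ⟨i, hi⟩ := IsPGroup.iff_orderOf.1 (h.isPGroup_pair hR) ⟨z, hzR⟩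
    rw [orderOf_mk] at hi
    rcases i with _ | i
    · exact hz1 (orderOf_eq_one_iff.1 (by rw [hi, pow_zero]))
    · exact P.not_dvd_index ((hi ▸ dvd_pow_self 7 (Nat.succ_ne_zero i) : 7 ∣ orderOf z).trans h2)
  have hSker : (S : Subgroup G) ≤ φ.ker := by
    intro s hs
    rw [MonoidHom.mem_ker]
    obtain ⟨i, hi⟩ := IsPGroup.iff_orderOf.1 P.isPGroup' (φ s)
    refine orderOf_eq_one_iff.1 (Nat.eq_one_of_dvd_coprimes (a := orderOf (φ s)) (b := 2) ?_ dvd_rfl
      (orderOf_dvd_of_pow_eq_one (by rw [← map_pow, h.pow_two_eq hs, map_one])))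
    rw [hi]
    exact Nat.Coprime.pow_left i (by norm_num)
  have hle := h.le_stabilizer_of_sylow hker S hSker (le_M.trans (stabilizer_base (S := S)).ge)
  obtain ⟨s, hs, hs1⟩ := h.exists_invol
  refine hR.ne (h.uniqueFix.unique s (h.orderOf_eq_two hs hs1) b (base S) ?_
    (smul_base_iff.2 (le_M hs)))
  rw [← hub, smul_fix_iff]
  exact hle ((φ.normal_ker).conj_mem' s (hSker hs) u)

end CfsgLib.HallEight
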