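import Cfsg.Agent.HallEight.Structure
import Cfsg.Agent.SEmbed.Swap

/-!
# Locals lie in point stabilisers, and the two-point stabilisers are 7-groups

On the cosets of `M`: a proper subgroup containing a four group fixes its point; for a prime
`p ≠ 7` no `p`-element fixes two points; a maximal 7-group fixing two points is a Sylow
7-subgroup of `M` with exactly two fixed points.
-/

set_option autoImplicit false
set_option linter.unusedSectionVars false
set_option linter.style.haveILetI false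

namespace CfsgLib.HallEight

open Subgroup CfsgLib.Signalizer CfsgLib.SEmbed

variable {G : Type*} [Group G] [Finite G]

/-- The base point. -/
def base (S : Sylow 2 G) : G ⧸ M S := ((1 : G) : G ⧸ M S)

variable {S : Sylow 2 G}

theorem smul_base_iff {g : G} : g • base S = base S ↔ g ∈ M S := smul_one_eq_iff _ g

theorem stabilizer_base : MulAction.stabilizer G (base S) = M S := by
  ext g
  exact MulAction.mem_stabilizer_iff.trans smul_base_iff

theorem exists_smul_base (c : G ⧸ M S) : ∃ g : G, g • base S = c :=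
  MulAction.exists_smul_eq G (base S) c

theorem pairStab_le_M (y : G ⧸ M S) : pairStab G (base S) y ≤ M S := fun _ hd =>
  smul_base_iff.1 (mem_pairStab.1 hd).1

theorem smul_fix_iff {g : G} {x : G} {c : G ⧸ M S} :
    x • g • c = g • c ↔ (g⁻¹ * x * g) • c = c := by
  rw [mul_smul, mul_smul, inv_smul_eq_iff]

variable (h : Setting S)
include h

theorem Setting.normalizer_ne_top {R : Subgroup G} (hodd : Odd (Nat.card R)) (hR : R ≠ ⊥) :
    normalizer (R : Set G) ≠ ⊤ := by
  intro he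
  haveI : R.Normal := normalizer_eq_top_iff.1 he
  refine hR ?_
  rw [eq_bot_iff, ← h.core_bot]
  exact CfsgLib.PLocal.le_pPrimeCore (Nat.coprime_two_right.2 hodd)

/-- A proper subgroup containing a Sylow 2-subgroup fixes its point. -/
theorem Setting.le_stabilizer_of_sylow {X : Subgroup G} (hX : X ≠ ⊤) (P : Sylow 2 G)
    (hPX : (P : Subgroup G) ≤ X) {c : G ⧸ M S} (hc : (P : Subgroup G) ≤ MulAction.stabilizer G c) :
    X ≤ MulAction.stabilizer G c := by
  haveI := h.isMulCommutative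
  obtain ⟨g, hg⟩ := MulAction.exists_smul_eq G S P
  have hgc : g • base S = c := by
    obtain ⟨t, ht, ht1⟩ := h.exists_invol
    have hmem : g * t * g⁻¹ ∈ (P : Subgroup G) := by
      rw [← hg, Sylow.coe_subgroup_smul]; exact ⟨t, ht, rfl⟩
    refine h.uniqueFix.unique (g * t * g⁻¹) ((CfsgLib.Small.orderOf_conj_eq g t).trans (h.orderOf_eq_two ht ht1))
      _ _ ?_ (hc hmem)
    rw [smul_fix_iff, show g⁻¹ * (g * t * g⁻¹) * g = t by group]
    exact smul_base_iff.2 (le_M ht)
  set Y := X.comap (MulAut.conj g).toMonoidHom with hY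
  have hY1 : Y ≠ ⊤ := by
    intro he
    refine hX (eq_top_iff.2 fun x _ => ?_)
    have : g⁻¹ * x * g ∈ Y := he ▸ mem_top _
    simpa [hY, mul_assoc] using this
  have hSY : (S : Subgroup G) ≤ Y := by
    intro s hs
    refine hPX ?_
    rw [← hg, Sylow.coe_subgroup_smul]
    exact ⟨s, hs, rfl⟩
  have hYM : Y ≤ M S := by
    refine (h.proper Y hY1 hSY).trans (sup_le ?_ normalizer_le_M)
    refine CfsgLib.Coprime.le_of_forall_inf_centralizer_le h.not_isCyclic
      (hSY.trans (le_normalizer_coreOf Y)) ?_ fun v hv hv1 =>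
        inf_le_right.trans (h.centralizer_le_M hv hv1)
    rw [h.card_eq, show (8 : ℕ) = 2 ^ 3 by norm_num]
    exact (Nat.coprime_two_left.2 (odd_coreOf Y)).pow_left 3
  intro x hx
  rw [MulAction.mem_stabilizer_iff, ← hgc, smul_fix_iff, smul_base_iff]
  exact hYM (show g⁻¹ * x * g ∈ Y by simpa [hY, mul_assoc] using hx)

/-- A subgroup of odd order is fixed at the point when its normaliser contains an eight of it. -/
theorem Setting.normalizer_le_M_of_eight {R : Subgroup G} (hodd : Odd (Nat.card R)) (hR : R ≠ ⊥)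
    {U : Subgroup G} (hU : U ≤ M S) (hUR : U ≤ normalizer (R : Set G)) (h8 : 8 ∣ Nat.card U) :
    normalizer (R : Set G) ≤ M S := by
  haveI : Fact (Nat.Prime 2) := ⟨Nat.prime_two⟩
  obtain ⟨P₀, hP₀⟩ := Sylow.exists_subgroup_card_pow_prime 2 (n := 3) (G := U) (by simpa using h8)
  have hc : Nat.card (P₀.map U.subtype) = 8 := by
    rw [card_map_of_injective U.subtype_injective, hP₀]; norm_num
  have hcard : Nat.card (P₀.map U.subtype) = 2 ^ (Nat.card G).factorization 2 := by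
    rw [hc, ← h.card_eq, S.card_eq_multiplicity]
  rw [← stabilizer_base]
  refine h.le_stabilizer_of_sylow (h.normalizer_ne_top hodd hR) (Sylow.ofCard _ hcard) ?_ ?_
  · rw [Sylow.coe_ofCard]
    exact (map_subtype_le _).trans hUR
  · rw [Sylow.coe_ofCard, stabilizer_base]
    exact (map_subtype_le _).trans hU

theorem Setting.normalizer_four_le_centralizer {V : Subgroup G} (hV : IsFour V) (hVM : V ≤ M S)
    {n : G} (hn : n ∈ normalizer (V : Set G)) (hnM : n ∈ M S) :
    n ∈ centralizer (V : Set G) := by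
  obtain ⟨v₀, hv₀, hv₀o⟩ := hV.exists_invol
  obtain ⟨w₀, hw₀, s, hs, hs1, hws⟩ := h.invol_decomp (hVM hv₀) hv₀o
  have hsV : s ∈ W S ⊔ V := by
    rw [show s = w₀⁻¹ * v₀ by rw [← hws]; group]
    exact mul_mem (mem_sup_left (inv_mem hw₀)) (mem_sup_right hv₀)
  obtain ⟨w, hw, k, hk, rfl⟩ := h.exists_decomp hnM
  have hcop : W S ⊓ V = ⊥ := CfsgLib.Coprime.inf_eq_bot_of_coprime (by
    rw [hV.1, show (4 : ℕ) = 2 ^ 2 by norm_num]
    exact (Nat.coprime_two_right.2 h.odd_W).pow_right 2)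
  by_cases hkC : k ∈ centralizer ((S : Subgroup G) : Set G)
  · rw [mem_centralizer_iff]
    intro v hv
    by_cases hv1 : v = 1
    · rw [hv1, one_mul, mul_one]
    obtain ⟨x, hx, r, hr, -, hxr⟩ := h.invol_decomp (hVM hv) (hV.orderOf_eq_two hv hv1)
    have h1 : (w * k) * v * (w * k)⁻¹ * v⁻¹ ∈ V :=
      mul_mem ((mem_normalizer_iff.1 hn v).1 hv) (inv_mem hv)
    have h2 : (w * k) * v * (w * k)⁻¹ * v⁻¹ ∈ W S := by
      have h3 : (w * k) * r * (w * k)⁻¹ * r⁻¹ ∈ W S := by
        have := h.conj_mod hw hk hr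
        rwa [show k * r * k⁻¹ = r from mul_inv_eq_iff_eq_mul.2
          ((mem_centralizer_iff.1 hkC) r hr).symm] at this
      rw [show (w * k) * v * (w * k)⁻¹ * v⁻¹ = ((w * k) * x * (w * k)⁻¹) *
        ((w * k) * r * (w * k)⁻¹ * r⁻¹) * x⁻¹ by rw [← hxr]; group]
      exact mul_mem (mul_mem (h.conj_mem_W hnM hx) h3) (inv_mem hx)
    have h4 : (w * k) * v * (w * k)⁻¹ * v⁻¹ = 1 := mem_bot.1 (hcop ▸ ⟨h2, h1⟩)
    exact (mul_inv_eq_iff_eq_mul.1 (mul_inv_eq_one.1 h4)).symm
  · exfalso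
    have hkN : k ∈ normalizer (((W S ⊔ V : Subgroup G)) : Set G) := by
      have hwV : w ∈ normalizer (((W S ⊔ V : Subgroup G)) : Set G) :=
        le_normalizer (mem_sup_left hw)
      have hnV : w * k ∈ normalizer (((W S ⊔ V : Subgroup G)) : Set G) :=
        normalizer_inf_normalizer_le_normalizer_sup (W S) V ⟨h.M_le_normalizer hnM, hn⟩
      have := mul_mem (inv_mem hwV) hnV
      rwa [inv_mul_cancel_left] at this
    have hmove : k * s ≠ s * k := fun e => hkC (h.mem_centralizer_of_commute hk hs hs1 e)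
    have hSV : (S : Subgroup G) ≤ W S ⊔ V := fun x hx => by
      by_cases hx1 : x = 1
      · rw [hx1]; exact one_mem _
      obtain ⟨j, hj⟩ := h.exists_conj_pow hk hs hs1 hx hx1 hmove
      rw [← hj]
      exact (mem_normalizer_iff.1 (pow_mem hkN j) s).1 hsV
    have := h.eight_dvd_of_le_sup hVM hSV
    rw [hV.1] at this
    norm_num at this

/-- A proper subgroup containing a four group fixes its point. -/
theorem Setting.le_stabilizer_of_four {X V : Subgroup G} (hX : X ≠ ⊤) (hV : IsFour V)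
    (hVX : V ≤ X) {c : G ⧸ M S} (hVc : V ≤ MulAction.stabilizer G c) :
    X ≤ MulAction.stabilizer G c := by
  haveI : Fact (Nat.Prime 2) := ⟨Nat.prime_two⟩
  obtain ⟨v, hv, hvo⟩ := hV.exists_invol
  by_cases hmax : ∀ Q : Subgroup G, IsPGroup 2 Q → V ≤ Q → Q ≤ X → Q = V
  · have hN : normalizer (V : Set G) ⊓ X ≤ centralizer (V : Set G) := by
      rintro n ⟨hn, -⟩
      obtain ⟨g, rfl⟩ := exists_smul_base c
      have hnc : n • g • base S = g • base S := by
        have h1 : (n⁻¹ * v * n) • g • base S = g • base S :=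
          hVc ((mem_normalizer_iff''.1 hn v).1 hv)
        exact h.uniqueFix.unique v hvo _ _ ((smul_fix_iff (c := g • base S)).2 h1) (hVc hv)
      rw [smul_fix_iff, smul_base_iff] at hnc
      set V' := V.map (MulAut.conj g⁻¹).toMonoidHom
      have hmemV : ∀ x, g⁻¹ * x * g ∈ V' ↔ x ∈ V := fun x => by
        constructor
        · rintro ⟨y, hy, e⟩
          simp only [MulEquiv.coe_toMonoidHom, MulAut.conj_apply, inv_inv] at e
          rwa [← mul_right_cancel (mul_left_cancel (a := g⁻¹) (by simpa [mul_assoc] using e) :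
            y * g = x * g)]
        · exact fun hx => ⟨x, hx, by simp [mul_assoc]⟩
      have hV' : IsFour V' := by
        refine ⟨by rw [card_map_of_injective (MulAut.conj g⁻¹).injective, hV.1], ?_⟩
        rintro _ ⟨x, hx, rfl⟩
        rw [← map_mul, hV.2 x hx, map_one]
      have hV'M : V' ≤ M S := by
        rintro _ ⟨x, hx, rfl⟩
        rw [← smul_base_iff]
        simpa [MulAut.conj_apply] using (smul_fix_iff (c := base S)).1 (hVc hx)
      have hn' : g⁻¹ * n * g ∈ normalizer (V' : Set G) := by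
        rw [mem_normalizer_iff]
        intro y
        obtain ⟨x, rfl⟩ : ∃ x, g⁻¹ * x * g = y := ⟨g * y * g⁻¹, by group⟩
        rw [hmemV, show g⁻¹ * n * g * (g⁻¹ * x * g) * (g⁻¹ * n * g)⁻¹ =
          g⁻¹ * (n * x * n⁻¹) * g by group, hmemV]
        exact mem_normalizer_iff.1 hn x
      have hc := h.normalizer_four_le_centralizer hV' hV'M hn' hnc
      rw [mem_centralizer_iff] at hc ⊢
      intro x hx
      have := hc _ ((hmemV x).2 hx)
      calc x * n = g * ((g⁻¹ * x * g) * (g⁻¹ * n * g)) * g⁻¹ := by group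
        _ = g * ((g⁻¹ * n * g) * (g⁻¹ * x * g)) * g⁻¹ := by rw [this]
        _ = n * x := by group
    exact (le_coreOf_sup hVX hV.isPGroup hmax hN).trans (sup_le
      (SEmbed.le_stabilizer_of_four h.uniqueFix hV hVc (odd_coreOf X)
        (hVX.trans (le_normalizer_coreOf X))) hVc)
  · push Not at hmax
    obtain ⟨Q, hQ, hVQ, hQX, hne⟩ := hmax
    obtain ⟨P, hP⟩ := hQ.exists_le_sylow
    have hQP : Q = P := by
      refine eq_of_le_of_card_ge hP ?_
      obtain ⟨k, hk⟩ := IsPGroup.iff_card.1 hQ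
      have h4 : Nat.card V ≤ Nat.card Q := card_le_of_le hVQ
      have h4' : Nat.card Q ≠ 4 := fun e => hne (eq_of_le_of_card_ge hVQ (by rw [e, hV.1])).symm
      rw [P.card_eq_multiplicity, ← S.card_eq_multiplicity, h.card_eq, hk]
      rw [hV.1, hk] at h4
      rw [hk] at h4'
      have hk2 : 3 ≤ k := by
        rcases k with _ | _ | _ | k <;> simp_all
      exact (show (8 : ℕ) = 2 ^ 3 by norm_num) ▸ Nat.pow_le_pow_right two_pos hk2
    refine h.le_stabilizer_of_sylow hX P (hQP ▸ hQX) fun x hx => ?_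
    refine commute_fix h.uniqueFix hvo ?_ (hVc hv)
    have hsq : ∀ z ∈ (P : Subgroup G), z * z = 1 := fun z hz => by
      obtain ⟨k, hk⟩ := P.isPGroup' ⟨z, hz⟩
      exact h.two_elt_mul_self (k := k) (congrArg Subtype.val hk)
    have h1 := inv_eq_of_mul_eq_one_right (hsq x hx)
    have h2 := inv_eq_of_mul_eq_one_right (hsq v (hP (hVQ hv)))
    have h3 := inv_eq_of_mul_eq_one_right (hsq (x * v) (mul_mem hx (hP (hVQ hv))))
    rw [mul_inv_rev, h1, h2] at h3
    exact h3.symm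

theorem Setting.exists_pairStab_notMem {y : G ⧸ M S} (hy : base S ≠ y) :
    ∃ d ∈ pairStab G (base S) y, d ∉ W S := by
  obtain ⟨t, ht, ht1⟩ := h.exists_invol
  obtain ⟨n, hn, hnc⟩ := h.exists_mover
  have hs : n * t * n⁻¹ ∈ (S : Subgroup G) := (mem_normalizer_iff.1 hn t).1 ht
  have hs1 : n * t * n⁻¹ ≠ 1 := fun e => ht1 (conj_eq_one_iff.1 e)
  obtain ⟨d, hd, hdt⟩ := exists_conj_fix h.uniqueFix hy (s := t) (t := n * t * n⁻¹)
    ⟨h.orderOf_eq_two ht ht1, smul_base_iff.2 (le_M ht)⟩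
    ⟨h.orderOf_eq_two hs hs1, smul_base_iff.2 (le_M hs)⟩
  refine ⟨d, hd, fun hdW => ?_⟩
  have h1 : d * t * d⁻¹ * t⁻¹ ∈ W S := by
    rw [show d * t * d⁻¹ * t⁻¹ = d * (t * d⁻¹ * t⁻¹) by group]
    exact mul_mem hdW ((mem_normalizer_iff.1 (h.sylow_le_normalizer ht) _).1 (inv_mem hdW))
  rw [hdt] at h1
  have h2 := h.eq_one_of_mem h1 (mul_mem hs (inv_mem ht))
  exact hnc (h.mem_centralizer_of_commute hn ht ht1 (mul_inv_eq_iff_eq_mul.1 (mul_inv_eq_one.1 h2)))

omit h in
/-- Frattini inside a subgroup. -/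
theorem exists_mul_mem_normalizer {p : ℕ} [Fact p.Prime] {N R : Subgroup G} (hR : IsPGroup p R)
    (hRN : R ≤ N) (hmax : ∀ P : Subgroup G, IsPGroup p P → R ≤ P → P ≤ N → P = R) {d : G}
    (hd : d ∈ normalizer (N : Set G)) : ∃ x ∈ N, x * d ∈ normalizer (R : Set G) := by
  obtain ⟨Q, hQ⟩ := (hR.comap_of_injective N.subtype N.subtype_injective).exists_le_sylow
  have hQR : (Q : Subgroup N).map N.subtype = R :=
    hmax _ (Q.isPGroup'.map _) (fun x hx => ⟨⟨x, hRN hx⟩, hQ hx, rfl⟩) (map_subtype_le _)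
  have hRd : R.map (MulAut.conj d).toMonoidHom ≤ N := by
    rintro _ ⟨r, hr, rfl⟩
    exact (mem_normalizer_iff.1 hd r).1 (hRN hr)
  have hc : Nat.card ((R.map (MulAut.conj d).toMonoidHom).subgroupOf N) =
      p ^ (Nat.card N).factorization p := by
    rw [Nat.card_congr (subgroupOfEquivOfLe hRd).toEquiv,
      card_map_of_injective (MulAut.conj d).injective, ← hQR,
      card_map_of_injective N.subtype_injective, Q.card_eq_multiplicity]
  obtain ⟨x, hx⟩ := MulAction.exists_smul_eq N (Sylow.ofCard _ hc) Q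
  refine ⟨x, x.2, ?_⟩
  refine CfsgLib.Transfer.mem_normalizer_of_map_conj_eq ?_
  rw [← CfsgLib.Transfer.map_conj_map_conj]
  conv_rhs => rw [← hQR, ← hx]
  ext z
  constructor
  · rintro ⟨y, hy, rfl⟩
    refine ⟨x * ⟨y, hRd hy⟩ * x⁻¹, ?_, rfl⟩
    rw [SetLike.mem_coe, Sylow.coe_subgroup_smul]
    exact ⟨⟨y, hRd hy⟩, by simpa [mem_subgroupOf] using hy, rfl⟩
  · rintro ⟨y, hy, rfl⟩
    rw [SetLike.mem_coe, Sylow.coe_subgroup_smul] at hy
    obtain ⟨y', hy', rfl⟩ := hy
    exact ⟨y', by simpa [mem_subgroupOf] using hy', rfl⟩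

theorem Setting.isPGroup_le_W {p : ℕ} [Fact p.Prime] (hp2 : p ≠ 2) (hp7 : p ≠ 7) {R : Subgroup G}
    (hR : IsPGroup p R) (hRM : R ≤ M S) : R ≤ W S := fun x hx => by
  obtain ⟨k, hk⟩ := IsPGroup.iff_orderOf.1 hR ⟨x, hx⟩
  rw [orderOf_mk] at hk
  refine h.pow_mem_W (hRM hx) ?_
  rw [hk, show (14 : ℕ) = 2 * 7 from rfl]
  refine Nat.Coprime.pow_left k (Nat.Coprime.mul_right ?_ ?_)
  · exact (Nat.coprime_primes Fact.out Nat.prime_two).2 hp2
  · exact (Nat.coprime_primes Fact.out (by norm_num)).2 hp7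

/-- For `p ≠ 7` no nontrivial `p`-group fixes two points. -/
theorem Setting.eq_bot_of_le_pairStab {p : ℕ} [Fact p.Prime] (hp2 : p ≠ 2) (hp7 : p ≠ 7)
    {P : Subgroup G} (hP : IsPGroup p P) {y : G ⧸ M S} (hy : y ≠ base S)
    (hPy : P ≤ pairStab G (base S) y) : P = ⊥ := by
  by_contra hP1
  obtain ⟨R, hPR, hR⟩ := exists_isMaxPair hP hy hPy
  obtain ⟨z, hz, hRz⟩ := hR.exists_second
  have hRM : R ≤ M S := hRz.trans (pairStab_le_M z)
  have hRW : R ≤ W S := h.isPGroup_le_W hp2 hp7 hR.isPGroup hRM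
  have hodd : Odd (Nat.card R) := by
    obtain ⟨e, he⟩ := IsPGroup.iff_card.1 hR.isPGroup
    rw [he]; exact (Nat.Prime.odd_of_ne_two Fact.out hp2).pow
  have hR1 : R ≠ ⊥ := fun e => hP1 (le_bot_iff.1 (e ▸ hPR))
  have hzF : z ∈ fixSet (Ω := G ⧸ M S) R := fun r hr => (mem_pairStab.1 (hRz hr)).2
  obtain ⟨u, huN, -, hua⟩ := hR.exists_swap h.uniqueFix hzF hz
  have hnot : ¬ normalizer (R : Set G) ≤ M S := fun hle =>
    hz (by rw [← hua]; exact smul_base_iff.2 (hle huN))
  refine hnot (h.normalizer_le_M_of_eight hodd hR1 (U := normalizer (R : Set G) ⊓ M S) inf_le_right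
    inf_le_left ?_)
  by_cases hin : Inside R (base S)
  · obtain ⟨t, htN, hto, hta⟩ := hin
    obtain ⟨d₀, hd₀, hd₀W⟩ := h.exists_pairStab_notMem (Ne.symm hz)
    set D := pairStab G (base S) z
    obtain ⟨x, hx, hxd⟩ := exists_mul_mem_normalizer (N := D ⊓ W S) hR.isPGroup (le_inf hRz hRW)
      (fun Q hQ hle hQN => hR.max Q hQ z hz (hQN.trans inf_le_left) hle) (d := d₀)
      (inf_normalizer_le_normalizer_inf
        ⟨le_normalizer hd₀, h.M_le_normalizer (pairStab_le_M z hd₀)⟩)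
    have hxdD : x * d₀ ∈ D := mul_mem hx.1 hd₀
    refine h.eight_dvd inf_le_right ⟨htN, smul_base_iff.1 hta⟩ hto
      ⟨hxd, pairStab_le_M z hxdD⟩ ?_ fun hW => hd₀W ?_
    · exact (odd_pairStab h.uniqueFix (Ne.symm hz)).of_dvd_nat (orderOf_dvd_natCard D hxdD)
    · simpa using mul_mem (inv_mem (mem_inf.1 hx).2) hW
  · obtain ⟨b, -, -, hsyl⟩ := hR.outside h.uniqueFix hp2 hin
    refine h.eight_dvd_of_le_sup inf_le_right fun s hs => ?_
    obtain ⟨x, hx, hxs⟩ := exists_mul_mem_normalizer (N := W S) hR.isPGroup hRW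
      (fun Q hQ hle hQW => hsyl Q hQ hle ((hQW.trans W_le_M).trans (stabilizer_base (S := S)).ge))
      (h.sylow_le_normalizer hs)
    rw [show s = x⁻¹ * (x * s) by group]
    exact mul_mem (mem_sup_left (inv_mem hx))
      (mem_sup_right ⟨hxs, mul_mem (W_le_M hx) (le_M hs)⟩)

theorem Setting.isPGroup_pairStab {y : G ⧸ M S} (hy : y ≠ base S) :
    IsPGroup 7 (pairStab G (base S) y) := by
  refine IsPGroup.of_card (Nat.eq_prime_pow_of_unique_prime_dvd Nat.card_pos.ne' fun {q} hq hqd => ?_)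
  haveI := Fact.mk hq
  by_contra hq7
  have hq2 : q ≠ 2 := fun e => (odd_pairStab h.uniqueFix (Ne.symm hy)).not_two_dvd_nat (e ▸ hqd)
  obtain ⟨x, hx⟩ := exists_prime_orderOf_dvd_card' q hqd
  have hle : zpowers (x : G) ≤ pairStab G (base S) y := zpowers_le.2 x.2
  have h1 := h.eq_bot_of_le_pairStab hq2 hq7 (IsPGroup.of_card (n := 1) (by
    rw [Nat.card_zpowers, Subgroup.orderOf_coe, hx, pow_one])) hy hle
  rw [zpowers_eq_bot] at h1
  rw [← Subgroup.orderOf_coe, h1, orderOf_one] at hx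
  exact hq.ne_one hx.symm

/-- A Sylow 7-subgroup of `M` which is the stabiliser of exactly two points. -/
structure Pair (S : Sylow 2 G) (R : Subgroup G) (b : G ⧸ M S) : Prop where
  ne : b ≠ base S
  eq : pairStab G (base S) b = R
  fix : ∀ y : G ⧸ M S, (∀ r ∈ R, r • y = y) → y = base S ∨ y = b
  max : ∀ P : Subgroup G, IsPGroup 7 P → R ≤ P → P ≤ M S → P = R
  swap : ∃ u ∈ normalizer (R : Set G), orderOf u = 2 ∧ u • base S = b

/-- Every two-point stabiliser lies in a pair. -/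
theorem Setting.exists_pair {y : G ⧸ M S} (hy : y ≠ base S) :
    ∃ R b, Pair S R b ∧ pairStab G (base S) y ≤ R := by
  haveI : Fact (Nat.Prime 7) := ⟨by norm_num⟩
  obtain ⟨R, hle, hR⟩ := exists_isMaxPair (h.isPGroup_pairStab hy) hy le_rfl
  obtain ⟨z, hz, hRz⟩ := hR.exists_second
  have hout : ¬ Inside R (base S) := by
    rintro ⟨t, htN, hto, hta⟩
    have heq := hR.max _ (h.isPGroup_pairStab hz) z hz le_rfl hRz
    obtain ⟨d, hd, hdW⟩ := h.exists_pairStab_notMem (Ne.symm hz)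
    have hodd : Odd (Nat.card R) := by
      obtain ⟨e, he⟩ := IsPGroup.iff_card.1 hR.isPGroup
      rw [he]; exact (show Odd 7 by decide).pow
    have h8 := h.eight_dvd (U := R ⊔ zpowers t)
      (sup_le (hRz.trans (pairStab_le_M z)) (zpowers_le.2 (smul_base_iff.1 hta)))
      (mem_sup_right (mem_zpowers t)) hto (mem_sup_left (heq ▸ hd))
      (hodd.of_dvd_nat (orderOf_dvd_natCard R (heq ▸ hd))) hdW
    rw [CfsgLib.Coprime.card_sup_eq (zpowers_le.2 htN) (CfsgLib.Coprime.inf_eq_bot_of_coprime (by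
      rw [Nat.card_zpowers, hto]; exact Nat.coprime_two_right.2 hodd)), Nat.card_zpowers, hto] at h8
    obtain ⟨c, hc⟩ := hodd
    obtain ⟨e, he⟩ := h8
    omega
  obtain ⟨b, hb, hfix, hsyl⟩ := hR.outside h.uniqueFix (by norm_num) hout
  have hbF : b ∈ fixSet (Ω := G ⧸ M S) R := hfix ▸ Or.inr rfl
  have haF : base S ∈ fixSet (Ω := G ⧸ M S) R := hR.mem_fixSet
  obtain ⟨u, huN, huo, hua⟩ := hR.exists_swap h.uniqueFix hbF hb
  refine ⟨R, b, ⟨hb, ?_, fun w hw => ?_, fun P hP hle hPM =>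
    hsyl P hP hle (hPM.trans (stabilizer_base (S := S)).ge), ⟨u, huN, huo, hua⟩⟩, hle⟩
  · exact hR.max _ (h.isPGroup_pairStab hb) b hb le_rfl (le_pairStab_of_mem haF hbF)
  · have h1 : w ∈ fixSet (Ω := G ⧸ M S) R := hw
    rwa [hfix] at h1

end CfsgLib.HallEight
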