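import Cfsg.Agent.HallEight.Central
import Cfsg.Agent.S0346
import Cfsg.Agent.S0338

/-!
# `G = O(G) N(S)` for an elementary abelian Sylow 2-subgroup of order eight with automizer of order
dividing seven and `9 ∤ |G|`

In a minimal counterexample `G` is a Zassenhaus group on nine points.
-/

set_option autoImplicit false
set_option linter.unusedSectionVars false
set_option linter.style.haveILetI false

namespace CfsgLib.HallEight

open Subgroup CfsgLib.Signalizer CfsgLib.SEmbed

universe u

section

variable {G : Type u} [Group G] [Finite G] {S : Sylow 2 G} (h : Setting S)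
include h

theorem Setting.eq_of_mem_pairStab {y : G ⧸ M S} (hy : y ≠ base S) {g : G}
    (hg : g ∈ pairStab G (base S) y) (hg1 : g ≠ 1) {z : G ⧸ M S} (hz : g • z = z) :
    z = base S ∨ z = y := by
  haveI := prime_seven
  obtain ⟨R, b, hR, hle⟩ := h.exists_pair hy
  have hby : b = y := by
    have hfy : ∀ r ∈ R, r • y = y := by
      intro r hr
      have hcard := h.card_pair hR
      haveI : Fact (Nat.card R).Prime := ⟨by rw [hcard]; norm_num⟩
      have htop : pairStab G (base S) y = R := by
        rcases ((pairStab G (base S) y).subgroupOf R).eq_bot_or_eq_top_of_prime_card with e | e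
        · have h1 : (⟨g, hle hg⟩ : R) ∈ (pairStab G (base S) y).subgroupOf R := hg
          rw [e, mem_bot] at h1
          exact absurd (congrArg Subtype.val h1) hg1
        · exact le_antisymm hle (subgroupOf_eq_top.1 e)
      exact (mem_pairStab.1 (htop.symm ▸ hr)).2
    rcases hR.fix y hfy with e | e
    · exact absurd e hy
    · exact e.symm
  subst hby
  refine hR.fix z fun r hr => ?_
  have hcard := h.card_pair hR
  have : r ∈ zpowers g := by
    have heq : zpowers g = R := eq_of_le_of_card_ge (zpowers_le.2 (hle hg)) (by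
      rw [Nat.card_zpowers, hcard]
      have hd : orderOf g ∣ 7 := hcard ▸ orderOf_dvd_natCard R (hle hg)
      rcases (Nat.dvd_prime (by norm_num)).1 hd with e | e
      · exact absurd (orderOf_eq_one_iff.1 e) hg1
      · rw [e])
    exact heq.symm ▸ hr
  have hst : zpowers g ≤ MulAction.stabilizer G z := zpowers_le.2 hz
  exact hst this

theorem Setting.pair_eq {y : G ⧸ M S} (hy : y ≠ base S) :
    ∃ R, Pair S R y := by
  haveI := prime_seven
  obtain ⟨R, b, hR, hle⟩ := h.exists_pair hy
  obtain ⟨d, hd, hdW⟩ := h.exists_pairStab_notMem (Ne.symm hy)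
  have hd1 : d ≠ 1 := fun e => hdW (e ▸ one_mem _)
  rcases h.eq_of_mem_pairStab hy hd hd1 (hR.smul_b (hle hd)) with e | e
  · exact absurd e hR.ne
  · exact ⟨R, e ▸ hR⟩

theorem Setting.transitive {y z : G ⧸ M S} (hy : y ≠ base S) (hz : z ≠ base S) :
    ∃ m ∈ M S, m • y = z := by
  obtain ⟨R, hR⟩ := h.pair_eq hy
  obtain ⟨Q, hQ⟩ := h.pair_eq hz
  obtain ⟨R', b', hR', hle⟩ := h.exists_pair_ge (h.isPGroup_pair hR) hR.le_M
  haveI := prime_seven
  -- the two Sylow subgroups are conjugate in `M`
  obtain ⟨P, hP⟩ := ((h.isPGroup_pair hR).comap_of_injective (M S).subtype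
    (M S).subtype_injective).exists_le_sylow
  obtain ⟨P', hP'⟩ := ((h.isPGroup_pair hQ).comap_of_injective (M S).subtype
    (M S).subtype_injective).exists_le_sylow
  have e1 : (P : Subgroup (M S)).map (M S).subtype = R :=
    hR.max _ (P.isPGroup'.map _) (fun x hx => ⟨⟨x, hR.le_M hx⟩, hP hx, rfl⟩) (map_subtype_le _)
  have e2 : (P' : Subgroup (M S)).map (M S).subtype = Q :=
    hQ.max _ (P'.isPGroup'.map _) (fun x hx => ⟨⟨x, hQ.le_M hx⟩, hP' hx, rfl⟩) (map_subtype_le _)
  obtain ⟨m, hm⟩ := MulAction.exists_smul_eq (M S) P P'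
  refine ⟨m, m.2, ?_⟩
  have hconj := hR.conj m.2
  have hfz : ∀ r ∈ R.map (MulAut.conj (m : G)).toMonoidHom, r • z = z := by
    intro r hr
    obtain ⟨x, hx, rfl⟩ := hr
    refine hQ.smul_b ?_
    rw [← e2, ← hm, Sylow.coe_subgroup_smul]
    rw [SetLike.mem_coe, ← e1] at hx
    obtain ⟨x', hx', rfl⟩ := hx
    exact ⟨m * x' * m⁻¹, ⟨x', hx', rfl⟩, rfl⟩
  rcases hconj.fix z hfz with e | e
  · exact absurd e hz
  · exact e.symm

theorem Setting.false : False := by
  classical
  haveI := prime_seven
  haveI : Fact (Nat.Prime 2) := ⟨Nat.prime_two⟩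
  set Ω := G ⧸ M S
  obtain ⟨y, hy⟩ := h.exists_point
  obtain ⟨R, hR⟩ := h.pair_eq hy
  haveI := Fintype.ofFinite Ω
  -- the point stabiliser has the two orbits
  have horb : MulAction.orbit (M S) y = {z : Ω | z ≠ base S} := by
    ext z
    constructor
    · rintro ⟨m, rfl⟩ e
      refine hy ?_
      have e' : (m : G) • y = base S := e
      rw [← smul_left_cancel_iff (m : G), e', smul_base_iff.2 m.2]
    · intro hz
      obtain ⟨m, hm, hmz⟩ := h.transitive hy hz
      exact ⟨⟨m, hm⟩, hmz⟩
  have hcardR := h.card_pair hR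
  have hn : Fintype.card Ω - 1 = Nat.card (M S) / 7 ∧ Nat.card (M S) % 7 = 0 := by
    have h1 := Nat.card_congr (MulAction.orbitEquivQuotientStabilizer (M S) y)
    have h2 : MulAction.stabilizer (M S) y = R.subgroupOf (M S) := by
      ext m
      rw [MulAction.mem_stabilizer_iff, mem_subgroupOf, ← hR.eq, mem_pairStab]
      exact ⟨fun e => ⟨smul_base_iff.2 m.2, e⟩, fun e => e.2⟩
    rw [horb, h2, ← index_eq_card] at h1
    have h3 := card_mul_index (R.subgroupOf (M S))
    rw [Nat.card_congr (subgroupOfEquivOfLe hR.le_M).toEquiv, hcardR, ← h1] at h3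
    have h4 : Nat.card {z : Ω | z ≠ base S} = Fintype.card Ω - 1 := by
      rw [Nat.card_eq_fintype_card]
      simp only [Set.coe_ofPred, Fintype.card_subtype_compl, Fintype.card_subtype_eq]
    rw [h4] at h3
    rw [← h3]
    exact ⟨(Nat.mul_div_cancel_left _ (by norm_num)).symm, Nat.mul_mod_right 7 _⟩
  have h8 : 8 ∣ Nat.card (M S) := h.card_eq ▸ card_dvd_of_le le_M
  have h8n : 8 ∣ Fintype.card Ω - 1 := by
    refine Nat.Coprime.dvd_of_dvd_mul_left (m := 7) (by norm_num) ?_
    rw [hn.1, Nat.mul_div_cancel' (Nat.dvd_of_mod_eq_zero hn.2)]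
    exact h8
  have hodd : Odd (Fintype.card Ω) := by
    have : 1 ≤ Fintype.card Ω := Fintype.card_pos_iff.2 ⟨y⟩
    obtain ⟨c, hc⟩ := h8n
    exact ⟨4 * c, by omega⟩
  have hZ : Cfsg.IsZassenhausGroup G Ω := by
    have htrans : ∀ {a b c d : Ω}, a ≠ b → c ≠ d → ∃ g : G, g • a = c ∧ g • b = d := by
      intro a b c d hab hcd
      obtain ⟨g, hg⟩ := exists_smul_base a
      obtain ⟨k, hk⟩ := exists_smul_base c
      have h1 : g⁻¹ • b ≠ base S := fun e => hab (by rw [← hg, ← e, smul_inv_smul])
      have h2 : k⁻¹ • d ≠ base S := fun e => hcd (by rw [← hk, ← e, smul_inv_smul])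
      obtain ⟨m, hm, hmd⟩ := h.transitive h1 h2
      refine ⟨k * m * g⁻¹, ?_, ?_⟩
      · rw [← hg, mul_smul, inv_smul_smul, mul_smul, smul_base_iff.2 hm, hk]
      · rw [mul_smul, mul_smul, hmd, smul_inv_smul]
    have hthree : ∀ g : G, ∀ a b c : Ω, a ≠ b → b ≠ c → a ≠ c → g • a = a → g • b = b →
        g • c = c → g = 1 := by
      intro g a b c hab hbc hac ha hb hc
      by_contra hg1
      obtain ⟨k, hk⟩ := exists_smul_base a
      set g' := k⁻¹ * g * k
      have hfix : ∀ z : Ω, g • z = z → g' • (k⁻¹ • z) = k⁻¹ • z := fun z hz => by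
        simp only [g', mul_smul, smul_inv_smul, hz]
      have hbase : ∀ z : Ω, z ≠ a → k⁻¹ • z ≠ base S := fun z hz e =>
        hz (by rw [← hk, ← e, smul_inv_smul])
      have hg'a : g' • base S = base S := by
        have := hfix a ha
        rwa [← hk, inv_smul_smul] at this
      rcases h.eq_of_mem_pairStab (hbase b (Ne.symm hab))
        (mem_pairStab.2 ⟨hg'a, hfix b hb⟩)
        (fun e => hg1 ((conj_eq_one_iff (a := k⁻¹)).1 (by simpa [g'] using e))) (hfix c hc) with e | e
      · exact hbase c (Ne.symm hac) e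
      · exact hbc (smul_left_cancel _ e).symm
    refine ⟨⟨fun {g₁ g₂} he => ?_⟩, MulAction.is_two_pretransitive_iff.2 htrans, hthree, ?_, ?_⟩
    · obtain ⟨z, hzy, hzb⟩ : ∃ z : Ω, z ≠ y ∧ z ≠ base S := by
        by_contra! hall
        have h1 : Fintype.card Ω ≤ 2 := by
          rw [← Finset.card_univ]
          exact le_trans (Finset.card_le_card (t := {y, base S}) fun z _ => by
            by_cases e : z = y
            · exact Finset.mem_insert.2 (Or.inl e)
            · exact Finset.mem_insert.2 (Or.inr (Finset.mem_singleton.2 (hall z e)))) Finset.card_le_two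
        obtain ⟨c, hc⟩ := h8n
        obtain ⟨e, he'⟩ := hodd
        have h2 : 2 ≤ Fintype.card Ω := Fintype.one_lt_card_iff.2 ⟨y, base S, hy⟩
        omega
      have h1 := hthree (g₁⁻¹ * g₂) (base S) y z (Ne.symm hy) (Ne.symm hzy) (Ne.symm hzb)
        (by rw [mul_smul, ← he, inv_smul_smul]) (by rw [mul_smul, ← he, inv_smul_smul])
        (by rw [mul_smul, ← he, inv_smul_smul])
      exact inv_mul_eq_one.1 h1
    · obtain ⟨g, hg, hgW⟩ := h.exists_pairStab_notMem (Ne.symm hy)
      exact ⟨g, fun e => hgW (e ▸ one_mem _), base S, y, Ne.symm hy, (mem_pairStab.1 hg).1,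
        (mem_pairStab.1 hg).2⟩
    · intro N hN hNt
      refine ⟨base S, fun hbot => ?_⟩
      haveI : MulAction.IsPretransitive N (G ⧸ M S) := hNt
      have h1 : Nat.card N = Fintype.card Ω := by
        rw [← Nat.card_eq_fintype_card, ← MulAction.index_stabilizer_of_transitive N (base S)]
        exact ((congrArg Subgroup.index hbot).trans index_bot).symm
      have hNbot : N = ⊥ := by
        rw [eq_bot_iff, ← h.core_bot]
        haveI := hN
        exact CfsgLib.PLocal.le_pPrimeCore (Nat.coprime_two_right.2 (h1 ▸ hodd))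
      subst hNbot
      rw [card_bot] at h1
      obtain ⟨c, hc⟩ := h8n
      have h2 : 2 ≤ Fintype.card Ω := Fintype.one_lt_card_iff.2 ⟨y, base S, hy⟩
      omega
  haveI := Cfsg.Agent.S0338.result hZ hodd
  obtain ⟨p, k, hp, hk, hpk⟩ := Cfsg.Agent.S0346.result hZ
  have hp2 : p = 2 := by
    have h1 : 2 ∣ p ^ k := hpk ▸ dvd_trans (by norm_num) h8n
    exact ((Nat.prime_dvd_prime_iff_eq Nat.prime_two hp.nat_prime).1
      (Nat.prime_two.dvd_of_dvd_pow h1)).symm
  subst hp2
  have hk3 : k ≤ 3 := by
    have h1 : 2 ^ k ∣ Nat.card G := by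
      rw [hpk]
      refine dvd_trans ?_ (card_subgroup_dvd_card (M S))
      rw [← Nat.mul_div_cancel' (Nat.dvd_of_mod_eq_zero hn.2), ← hn.1]
      exact Dvd.intro_left _ rfl
    have h2 := (Nat.Prime.pow_dvd_iff_le_factorization Nat.prime_two Nat.card_pos.ne').1 h1
    have h3 := S.card_eq_multiplicity
    rw [h.card_eq] at h3
    have h4 : (2 : ℕ) ^ 3 = 2 ^ (Nat.card G).factorization 2 := by rw [← h3]; norm_num
    have := Nat.pow_right_injective (le_refl 2) h4
    omega
  have h9 : Fintype.card Ω = 9 := by
    have h1 : (2 : ℕ) ^ k ≤ 2 ^ 3 := Nat.pow_le_pow_right two_pos hk3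
    have h2 : 8 ≤ Fintype.card Ω - 1 := Nat.le_of_dvd (by rw [← hpk]; positivity) h8n
    omega
  refine h.nine ⟨Nat.card (M S), ?_⟩
  rw [card_eq_card_quotient_mul_card_subgroup (M S), Nat.card_eq_fintype_card (α := Ω), h9]

end

theorem oddCore_sup_normalizer_aux (n : ℕ) : ∀ (G : Type u) [Group G] [Finite G] (S : Sylow 2 G),
    Nat.card G = n → Hyp S → Cfsg.oddCore G ⊔ normalizer ((S : Subgroup G) : Set G) = ⊤ := by
  induction n using Nat.strong_induction_on with
  | _ n ih =>
    intro G _ _ S hn h
    haveI : Fact (Nat.Prime 2) := ⟨Nat.prime_two⟩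
    by_cases hO : Cfsg.oddCore G = ⊥
    · rw [hO, bot_sup_eq]
      by_contra hN
      refine Setting.false (⟨h, hO, hN, fun X hX hSX => ?_⟩ : Setting S)
      have hlt : Nat.card X < n := by
        refine hn ▸ lt_of_le_of_ne (card_le_card_group X) fun e => hX (eq_top_of_card_eq X e)
      let SX : Sylow 2 X := S.subtype hSX
      have hmem : ∀ x : X, x ∈ (SX : Subgroup X) ↔ (x : G) ∈ (S : Subgroup G) := fun x => Iff.rfl
      have hN' : ∀ x : X, x ∈ normalizer ((SX : Subgroup X) : Set X) →
          (x : G) ∈ normalizer ((S : Subgroup G) : Set G) := by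
        intro x hx
        rw [mem_normalizer_iff]
        intro z
        constructor
        · intro hz; exact (mem_normalizer_iff.1 hx ⟨z, hSX hz⟩).1 hz
        · intro hz
          have hzX : z ∈ X := by
            have := mul_mem (mul_mem (inv_mem x.2) (hSX hz)) x.2
            simpa [mul_assoc] using this
          exact (mem_normalizer_iff.1 hx ⟨z, hzX⟩).2 hz
      have hSX' : Hyp SX := by
        refine ⟨fun x hx => Subtype.ext (h.sq x hx),
          (Nat.card_congr (subgroupOfEquivOfLe hSX).toEquiv).trans h.card_eq, ?_,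
          fun hd => h.nine (hd.trans (card_subgroup_dvd_card X))⟩
        let N := normalizer ((S : Subgroup G) : Set G)
        let f : normalizer ((SX : Subgroup X) : Set X) →* N :=
          { toFun := fun x => ⟨((x : X) : G), hN' x x.2⟩, map_one' := rfl, map_mul' := fun _ _ => rfl }
        haveI : ((centralizer ((S : Subgroup G) : Set G)).subgroupOf N).Normal :=
          normal_subgroupOf_of_le_normalizer (by
            intro g hg
            rw [mem_normalizer_iff]
            intro c
            simp only [mem_centralizer_iff]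
            constructor
            · intro hc q hq
              have := hc (g⁻¹ * q * g) ((mem_normalizer_iff''.1 hg q).1 hq)
              calc q * (g * c * g⁻¹) = g * ((g⁻¹ * q * g) * c) * g⁻¹ := by group
                _ = g * (c * (g⁻¹ * q * g)) * g⁻¹ := by rw [this]
                _ = _ := by group
            · intro hc q hq
              have := hc (g * q * g⁻¹) ((mem_normalizer_iff.1 hg q).1 hq)
              calc q * c = g⁻¹ * ((g * q * g⁻¹) * (g * c * g⁻¹)) * g := by group
                _ = g⁻¹ * ((g * c * g⁻¹) * (g * q * g⁻¹)) * g := by rw [this]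
                _ = c * q := by group)
        have h1 : (centralizer ((SX : Subgroup X) : Set X)).subgroupOf
            (normalizer ((SX : Subgroup X) : Set X)) =
            ((centralizer ((S : Subgroup G) : Set G)).subgroupOf N).comap f := by
          ext x
          simp only [mem_subgroupOf, mem_comap, mem_centralizer_iff]
          constructor
          · intro hx q hq; exact congrArg Subtype.val (hx ⟨q, hSX hq⟩ hq)
          · intro hx q hq; exact Subtype.ext (hx q hq)
        show ((centralizer ((SX : Subgroup X) : Set X)).subgroupOf _).index ∣ 7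
        rw [h1, index_comap]
        exact (Subgroup.relIndex_dvd_index_of_normal _ _).trans h.seven
      have h2 := congrArg (map X.subtype) (ih _ hlt X SX rfl hSX')
      rw [Subgroup.map_sup, ← MonoidHom.range_eq_map, range_subtype] at h2
      refine h2.ge.trans (sup_le_sup_left ?_ _)
      rintro _ ⟨x, hx, rfl⟩
      exact hN' x hx
    · haveI hOn : (Cfsg.oddCore G).Normal := inferInstance
      set q := QuotientGroup.mk' (Cfsg.oddCore G) with hq
      have hqs : Function.Surjective q := QuotientGroup.mk'_surjective _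
      have hodd : Odd (Nat.card (Cfsg.oddCore G)) := CfsgLib.Inv54.odd_card_oddCore
      let Sq : Sylow 2 (G ⧸ Cfsg.oddCore G) := S.mapSurjective hqs
      have hSq : (Sq : Subgroup (G ⧸ Cfsg.oddCore G)) = (S : Subgroup G).map q := rfl
      have hlt : Nat.card (G ⧸ Cfsg.oddCore G) < n := by
        rw [← hn, card_eq_card_quotient_mul_card_subgroup (Cfsg.oddCore G)]
        refine lt_mul_of_one_lt_right Nat.card_pos ?_
        haveI := (nontrivial_iff_ne_bot _).2 hO
        exact Finite.one_lt_card
      have hN : normalizer ((Sq : Subgroup (G ⧸ Cfsg.oddCore G)) : Set (G ⧸ Cfsg.oddCore G)) ≤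
          (normalizer ((S : Subgroup G) : Set G)).map q := by
        intro z hz
        obtain ⟨g, rfl⟩ := hqs z
        set K := ((S : Subgroup G).map q).comap q
        have hSK : (S : Subgroup G) ≤ K := le_comap_map _ _
        have hgK : g ∈ normalizer (K : Set G) := by
          rw [mem_normalizer_iff]
          intro x
          simp only [K, mem_comap, map_mul, map_inv]
          exact mem_normalizer_iff.1 hz (q x)
        obtain ⟨x, hx, hxg⟩ := exists_mul_mem_normalizer (N := K) S.isPGroup' hSK
          (fun P hP hle _ => S.is_maximal' hP hle) hgK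
        obtain ⟨s, hs, hsx⟩ := mem_map.1 (mem_comap.1 hx)
        refine ⟨s⁻¹ * (x * g), mul_mem (inv_mem (le_normalizer hs)) hxg, ?_⟩
        rw [map_mul, map_mul, map_inv, hsx, inv_mul_cancel_left]
      have hq' : Hyp Sq := by
        refine ⟨?_, ?_, ?_, fun hd => h.nine (hd.trans (card_quotient_dvd_card _))⟩
        · rintro x ⟨s, hs, rfl⟩
          rw [← map_mul, h.sq s hs, map_one]
        · rw [hSq]
          refine (Nat.card_congr (Equiv.ofBijective
            (fun s : (S : Subgroup G) => (⟨q s, ⟨s, s.2, rfl⟩⟩ : (S : Subgroup G).map q)) ⟨?_, ?_⟩)).symm.trans h.card_eq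
          · intro a b e
            have e' : q (((a : G))⁻¹ * b) = 1 := by
              have e0 : q (a : G) = q (b : G) := congrArg Subtype.val e
              rw [map_mul, map_inv, e0, inv_mul_cancel]
            have e'' : (a : G)⁻¹ * b ∈ Cfsg.oddCore G :=
              (QuotientGroup.eq_one_iff _).1 e'
            have h1 := eq_one_of_pow_two_pow (k := 1) (Nat.coprime_two_right.2 hodd) e''
              (by rw [pow_one]; exact h.pow_two_eq (mul_mem (inv_mem a.2) b.2))
            exact Subtype.ext (inv_mul_eq_one.1 h1)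
          · rintro ⟨_, s, hs, rfl⟩; exact ⟨⟨s, hs⟩, rfl⟩
        · let N := normalizer ((S : Subgroup G) : Set G)
          let N' := normalizer ((Sq : Subgroup (G ⧸ Cfsg.oddCore G)) : Set (G ⧸ Cfsg.oddCore G))
          let f : N →* N' :=
            { toFun := fun x => ⟨q x, by
                refine CfsgLib.Transfer.mem_normalizer_of_map_conj_eq ?_
                rw [hSq, Subgroup.map_map,
                  show (MulAut.conj (q x)).toMonoidHom.comp q = q.comp (MulAut.conj (x : G)).toMonoidHom from
                    MonoidHom.ext fun y => by simp,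
                  ← Subgroup.map_map, CfsgLib.Transfer.map_conj_eq_of_mem_normalizer x.2]⟩
              map_one' := Subtype.ext (map_one q)
              map_mul' := fun _ _ => Subtype.ext (map_mul q _ _) }
          have hf : Function.Surjective f := fun z => by
            obtain ⟨x, hx, hxz⟩ := hN z.2
            exact ⟨⟨x, hx⟩, Subtype.ext hxz⟩
          show ((centralizer ((Sq : Subgroup (G ⧸ Cfsg.oddCore G)) : Set (G ⧸ Cfsg.oddCore G))).subgroupOf N').index ∣ 7
          rw [← index_comap_of_surjective _ hf]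
          refine (index_dvd_of_le ?_).trans h.seven
          intro x hx
          simp only [mem_comap, mem_subgroupOf] at hx ⊢
          rw [mem_centralizer_iff]
          rintro _ ⟨s, hs, rfl⟩
          show q s * q x = q x * q s
          rw [← map_mul, ← map_mul, (mem_centralizer_iff.1 hx) s hs]
      have h1 := ih _ hlt (G ⧸ Cfsg.oddCore G) Sq rfl hq'
      rw [show Cfsg.oddCore (G ⧸ Cfsg.oddCore G) = ⊥ from
        CfsgLib.PLocal.pPrimeCore_quotient_pPrimeCore_eq_bot 2 G, bot_sup_eq] at h1
      rw [eq_top_iff]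
      intro g _
      obtain ⟨x, hx, hxg⟩ := hN (h1.symm ▸ mem_top (q g))
      have : g * x⁻¹ ∈ Cfsg.oddCore G := by
        rw [← QuotientGroup.eq_one_iff]
        show q (g * x⁻¹) = 1
        rw [map_mul, map_inv, hxg, mul_inv_cancel]
      rw [show g = (g * x⁻¹) * x by group]
      exact mul_mem (mem_sup_left this) (mem_sup_right hx)

/-- The theorem. -/
theorem oddCore_sup_normalizer {G : Type u} [Group G] [Finite G] (S : Sylow 2 G) (h : Hyp S) :
    Cfsg.oddCore G ⊔ normalizer ((S : Subgroup G) : Set G) = ⊤ :=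
  oddCore_sup_normalizer_aux _ G S rfl h

end CfsgLib.HallEight
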