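import Cfsg.Prelude.Def_Involutions
import Cfsg.Prelude.Def_CaseTheorems
import Cfsg.Agent.PLocal.Cores
import Cfsg.Agent.Signalizer.CoreComponents
import Cfsg.Agent.Coprime.Basic
import Mathlib

/-!
# Elementary abelian Sylow 2-subgroups of order eight with an automizer of order dividing seven

Elementary facts, used for the theorem `G = O(G) N(S)` when `9 ∤ |G|`.
-/

set_option autoImplicit false
set_option linter.unusedSectionVars false
set_option linter.style.haveILetI false

namespace CfsgLib.HallEight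

open Subgroup CfsgLib.Signalizer

variable {G : Type*} [Group G] [Finite G]

/-- The hypothesis. -/
structure Hyp (S : Sylow 2 G) : Prop where
  sq : ∀ x ∈ (S : Subgroup G), x * x = 1
  card_eq : Nat.card (S : Subgroup G) = 8
  seven : (centralizer ((S : Subgroup G) : Set G)).relIndex
    (normalizer ((S : Subgroup G) : Set G)) ∣ 7
  nine : ¬ 9 ∣ Nat.card G

/-- An element of odd order of `K S`, `S` of exponent two normalising `K`, lies in `K`. -/
theorem mem_of_odd_orderOf {K S : Subgroup G} (hSK : S ≤ normalizer (K : Set G))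
    (hsq : ∀ s ∈ S, s * s = 1) {y : G} (hy : y ∈ K ⊔ S) (ho : Odd (orderOf y)) : y ∈ K := by
  obtain ⟨k, hk, s, hs, rfl⟩ := CfsgLib.Coprime.exists_mul_of_mem_sup hSK hy
  have h2 : (k * s) * (k * s) ∈ K := by
    have h1 : s * k * s⁻¹ ∈ K := (mem_normalizer_iff.1 (hSK hs) k).1 hk
    have hss : s⁻¹ = s := inv_eq_of_mul_eq_one_right (hsq s hs)
    rw [show (k * s) * (k * s) = k * (s * k * s⁻¹) * (s * s) by rw [hss]; simp [mul_assoc, hsq s hs]]
    rw [hsq s hs, mul_one]
    exact mul_mem hk h1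
  obtain ⟨j, hj⟩ := ho
  have : (k * s) = ((k * s) * (k * s)) ^ (j + 1) := by
    rw [← pow_two, ← pow_mul, show 2 * (j + 1) = orderOf (k * s) + 1 by omega, pow_succ,
      pow_orderOf_eq_one, one_mul]
  rw [this]
  exact pow_mem h2 _

/-- An odd subgroup of `K S` lies in `K`. -/
theorem le_of_odd_card {K S Y : Subgroup G} (hSK : S ≤ normalizer (K : Set G))
    (hsq : ∀ s ∈ S, s * s = 1) (hY : Y ≤ K ⊔ S) (ho : Odd (Nat.card Y)) : Y ≤ K := fun y hy =>
  mem_of_odd_orderOf hSK hsq (hY hy) (ho.of_dvd_nat (orderOf_dvd_natCard Y hy))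

theorem odd_coreOf (X : Subgroup G) : Odd (Nat.card (coreOf X)) :=
  Nat.coprime_two_right.1 (coprime_card_coreOf X)

theorem map_conj_coreOf_le (g : G) (X : Subgroup G) :
    (coreOf X).map (MulAut.conj g).toMonoidHom ≤ coreOf (X.map (MulAut.conj g).toMonoidHom) := by
  refine le_coreOf (map_mono (coreOf_le X)) ?_ ?_
  · refine (map_mono (le_normalizer_coreOf X)).trans ?_
    exact le_normalizer_map _
  · rw [card_map_of_injective (MulAut.conj g).injective]
    exact coprime_card_coreOf X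

theorem map_conj_centralizer (g a : G) :
    (centralizer ({a} : Set G)).map (MulAut.conj g).toMonoidHom =
      centralizer ({g * a * g⁻¹} : Set G) := by
  ext x
  constructor
  · rintro ⟨y, hy, rfl⟩
    rw [SetLike.mem_coe, mem_centralizer_singleton_iff] at hy
    rw [mem_centralizer_singleton_iff]
    simp only [MulEquiv.coe_toMonoidHom, MulAut.conj_apply]
    calc g * y * g⁻¹ * (g * a * g⁻¹) = g * (y * a) * g⁻¹ := by group
      _ = g * (a * y) * g⁻¹ := by rw [hy]
      _ = _ := by group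
  · intro hx
    rw [mem_centralizer_singleton_iff] at hx
    refine ⟨g⁻¹ * x * g, ?_, ?_⟩
    · rw [SetLike.mem_coe, mem_centralizer_singleton_iff]
      calc g⁻¹ * x * g * a = g⁻¹ * (x * (g * a * g⁻¹)) * g := by group
        _ = g⁻¹ * ((g * a * g⁻¹) * x) * g := by rw [hx]
        _ = _ := by group
    · simp only [MulEquiv.coe_toMonoidHom, MulAut.conj_apply]
      group

/-- Burnside: a Sylow 2-subgroup central in its normaliser has a normal complement. -/
theorem oddCore_sup_of_normalizer_le (P : Sylow 2 G)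
    (h : normalizer ((P : Subgroup G) : Set G) ≤ centralizer ((P : Subgroup G) : Set G)) :
    Cfsg.oddCore G ⊔ (P : Subgroup G) = ⊤ := by
  haveI : Fact (Nat.Prime 2) := ⟨Nat.prime_two⟩
  have hcomp := MonoidHom.ker_transferSylow_isComplement' P h
  have hK : (MonoidHom.transferSylow P h).ker ≤ Cfsg.oddCore G :=
    CfsgLib.PLocal.le_pPrimeCore (CfsgLib.PLocal.not_dvd_iff_coprime.2
      (MonoidHom.not_dvd_card_ker_transferSylow P h))
  exact top_le_iff.1 (hcomp.sup_eq_top.ge.trans (sup_le_sup_right hK _))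

/-- Burnside in a subgroup. -/
theorem le_coreOf_sup {X : Subgroup G} {P : Subgroup G} (hPX : P ≤ X) (hP : IsPGroup 2 P)
    (hmax : ∀ Q : Subgroup G, IsPGroup 2 Q → P ≤ Q → Q ≤ X → Q = P)
    (hN : normalizer (P : Set G) ⊓ X ≤ centralizer (P : Set G)) : X ≤ coreOf X ⊔ P := by
  haveI : Fact (Nat.Prime 2) := ⟨Nat.prime_two⟩
  obtain ⟨Q, hQ⟩ := (hP.comap_of_injective X.subtype X.subtype_injective).exists_le_sylow
  have hQP : (Q : Subgroup X).map X.subtype = P := by
    refine hmax _ (Q.isPGroup'.map _) (fun x hx => ⟨⟨x, hPX hx⟩, hQ hx, rfl⟩) (map_subtype_le _)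
  have hmem : ∀ y : X, y ∈ (Q : Subgroup X) ↔ (y : G) ∈ P := fun y => by
    rw [← hQP]
    exact ⟨fun h => ⟨y, h, rfl⟩, fun ⟨z, hz, hzy⟩ => Subtype.ext hzy ▸ hz⟩
  have h : normalizer ((Q : Subgroup X) : Set X) ≤ centralizer ((Q : Subgroup X) : Set X) := by
    intro n hn
    have hn' : (n : G) ∈ normalizer (P : Set G) := by
      rw [mem_normalizer_iff]
      intro z
      constructor
      · intro hz
        exact (hmem (n * ⟨z, hPX hz⟩ * n⁻¹)).1 ((mem_normalizer_iff.1 hn _).1 ((hmem _).2 hz))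
      · intro hz
        have hzX : z ∈ X := by
          have := mul_mem (mul_mem (inv_mem n.2) (hPX hz)) n.2
          simpa [mul_assoc] using this
        exact (hmem ⟨z, hzX⟩).1 ((mem_normalizer_iff.1 hn _).2 ((hmem _).2 hz))
    rw [mem_centralizer_iff]
    intro y hy
    exact Subtype.ext ((mem_centralizer_iff.1 (hN ⟨hn', n.2⟩)) y ((hmem y).1 hy))
  have h2 := congrArg (map X.subtype) (oddCore_sup_of_normalizer_le Q h)
  rw [Subgroup.map_sup, hQP, ← MonoidHom.range_eq_map, range_subtype] at h2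
  exact h2.ge

namespace Hyp

variable {S : Sylow 2 G} (h : Hyp S)
include h

theorem pow_two_eq {x : G} (hx : x ∈ (S : Subgroup G)) : x ^ 2 = 1 := by rw [pow_two]; exact h.sq x hx

theorem inv_eq {x : G} (hx : x ∈ (S : Subgroup G)) : x⁻¹ = x :=
  inv_eq_of_mul_eq_one_right (h.sq x hx)

theorem commute {x y : G} (hx : x ∈ (S : Subgroup G)) (hy : y ∈ (S : Subgroup G)) :
    x * y = y * x := by
  calc x * y = (x * y)⁻¹ := (h.inv_eq (mul_mem hx hy)).symm
    _ = y * x := by rw [mul_inv_rev, h.inv_eq hx, h.inv_eq hy]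

theorem isMulCommutative : IsMulCommutative (S : Subgroup G) :=
  ⟨⟨fun x y => Subtype.ext (h.commute x.2 y.2)⟩⟩

theorem elab_sylow : Cfsg.IsElementaryAbelian 2 (S : Subgroup G) :=
  ⟨h.isMulCommutative, fun _ hx => h.pow_two_eq hx⟩

theorem not_isCyclic : ¬ IsCyclic (S : Subgroup G) := fun _ => by
  obtain ⟨g, hg⟩ := IsCyclic.exists_generator (α := (S : Subgroup G))
  have h1 := orderOf_eq_card_of_forall_mem_zpowers hg
  have h2 : orderOf g ∣ 2 := orderOf_dvd_of_pow_eq_one (Subtype.ext (h.pow_two_eq g.2))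
  rw [h1, h.card_eq] at h2
  norm_num at h2

theorem orderOf_eq_two {x : G} (hx : x ∈ (S : Subgroup G)) (hx1 : x ≠ 1) : orderOf x = 2 :=
  haveI : Fact (Nat.Prime 2) := ⟨Nat.prime_two⟩
  orderOf_eq_prime (h.pow_two_eq hx) hx1

theorem le_centralizer {x : G} (hx : x ∈ (S : Subgroup G)) :
    (S : Subgroup G) ≤ centralizer ({x} : Set G) := fun _ hy =>
  mem_centralizer_singleton_iff.2 (h.commute hy hx)

theorem le_centralizer_self : (S : Subgroup G) ≤ centralizer ((S : Subgroup G) : Set G) := fun x hx =>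
  mem_centralizer_iff.2 fun _ hy => h.commute hy hx

theorem two_elt_mul_self {g : G} {k : ℕ} (hg : g ^ 2 ^ k = 1) : g * g = 1 := by
  haveI : Fact (Nat.Prime 2) := ⟨Nat.prime_two⟩
  have hp : IsPGroup 2 (zpowers g) := by
    obtain ⟨m, -, hm⟩ := (Nat.dvd_prime_pow Nat.prime_two).1 (orderOf_dvd_of_pow_eq_one hg)
    exact IsPGroup.of_card (n := m) (by rw [Nat.card_zpowers, hm])
  obtain ⟨P, hP⟩ := hp.exists_le_sylow
  obtain ⟨x, hx⟩ := MulAction.exists_smul_eq G P S
  have hmem : x * g * x⁻¹ ∈ (S : Subgroup G) := by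
    rw [← hx, Sylow.coe_subgroup_smul]
    exact ⟨g, hP (mem_zpowers g), rfl⟩
  have h2 := h.sq _ hmem
  rw [show x * g * x⁻¹ * (x * g * x⁻¹) = x * (g * g) * x⁻¹ by group] at h2
  exact conj_eq_one_iff.1 h2

theorem pow_seven_mem {n : G} (hn : n ∈ normalizer ((S : Subgroup G) : Set G)) :
    n ^ 7 ∈ centralizer ((S : Subgroup G) : Set G) := by
  set C := (centralizer ((S : Subgroup G) : Set G)).subgroupOf
    (normalizer ((S : Subgroup G) : Set G))
  obtain ⟨c, hc⟩ : C.index ∣ 7 := h.seven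
  have h1 : (⟨n, hn⟩ : normalizer ((S : Subgroup G) : Set G)) ^ C.index ∈ C := pow_index_mem C _
  have h2 := pow_mem h1 c
  rw [← pow_mul, ← hc] at h2
  exact h2

theorem commute_of_pow {n s : G} (hn : n ∈ normalizer ((S : Subgroup G) : Set G))
    (hs : s ∈ (S : Subgroup G)) {a : ℕ} (ha : Nat.Coprime a 7)
    (hc : n ^ a * s = s * n ^ a) : n * s = s * n := by
  have h1 : n ^ a ∈ centralizer ({s} : Set G) := mem_centralizer_singleton_iff.2 hc
  have h2 : n ^ 7 ∈ centralizer ({s} : Set G) :=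
    mem_centralizer_singleton_iff.2 ((mem_centralizer_iff.1 (h.pow_seven_mem hn)) s hs).symm
  have h3 : n ∈ centralizer ({s} : Set G) := by
    have hb := Nat.gcd_eq_gcd_ab a 7
    rw [ha.gcd_eq_one] at hb
    have e : n = (n ^ a) ^ Nat.gcdA a 7 * (n ^ 7) ^ Nat.gcdB a 7 := by
      rw [← zpow_natCast n a, ← zpow_natCast n 7, ← zpow_mul, ← zpow_mul, ← zpow_add, ← hb]
      exact (zpow_one n).symm
    rw [e]
    exact mul_mem (zpow_mem h1 _) (zpow_mem h2 _)
  exact mem_centralizer_singleton_iff.1 h3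

theorem conj_pow_mem {n s : G} (hn : n ∈ normalizer ((S : Subgroup G) : Set G))
    (hs : s ∈ (S : Subgroup G)) (k : ℕ) : n ^ k * s * (n ^ k)⁻¹ ∈ (S : Subgroup G) :=
  (mem_normalizer_iff.1 (pow_mem hn k) s).1 hs

/-- The orbit of a moved element consists of seven elements. -/
theorem orbit_injective {n s : G} (hn : n ∈ normalizer ((S : Subgroup G) : Set G))
    (hs : s ∈ (S : Subgroup G)) (hmove : n * s ≠ s * n) :
    Function.Injective fun k : Fin 7 => n ^ (k : ℕ) * s * (n ^ (k : ℕ))⁻¹ := by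
  intro i j hij
  by_contra hne
  wlog hlt : (i : ℕ) < j generalizing i j
  · exact this hij.symm (Ne.symm hne) (lt_of_le_of_ne (not_lt.1 hlt) fun e => hne (Fin.ext e.symm))
  obtain ⟨d, hd⟩ := Nat.exists_eq_add_of_le hlt.le
  simp only at hij
  rw [hd, pow_add] at hij
  have hc : n ^ d * s * (n ^ d)⁻¹ = s := by
    calc n ^ d * s * (n ^ d)⁻¹ = (n ^ (i : ℕ))⁻¹ * (n ^ (i : ℕ) * n ^ d * s *
          (n ^ (i : ℕ) * n ^ d)⁻¹) * n ^ (i : ℕ) := by group
      _ = _ := by rw [← hij]; group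
  refine hmove (h.commute_of_pow hn hs (a := d) ?_ (mul_inv_eq_iff_eq_mul.1 hc))
  refine ((Nat.Prime.coprime_iff_not_dvd (by norm_num)).2 fun h7 => ?_).symm
  have := Nat.le_of_dvd (by omega) h7
  have := j.2
  omega

theorem exists_conj_pow {n : G} (hn : n ∈ normalizer ((S : Subgroup G) : Set G))
    {s t : G} (hs : s ∈ (S : Subgroup G)) (hs1 : s ≠ 1) (ht : t ∈ (S : Subgroup G)) (ht1 : t ≠ 1)
    (hmove : n * s ≠ s * n) : ∃ k : ℕ, n ^ k * s * (n ^ k)⁻¹ = t := by
  classical
  haveI := Fintype.ofFinite (S : Subgroup G)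
  let f : Fin 7 → {x : (S : Subgroup G) // x ≠ 1} := fun k =>
    ⟨⟨_, h.conj_pow_mem hn hs k⟩, fun e => hs1 (conj_eq_one_iff.1 (congrArg Subtype.val e))⟩
  have hinj : Function.Injective f := fun a b e => h.orbit_injective hn hs hmove
    (congrArg (fun x => ((x.1 : (S : Subgroup G)) : G)) e)
  have hcard : Fintype.card {x : (S : Subgroup G) // x ≠ 1} = Fintype.card (Fin 7) := by
    rw [Fintype.card_subtype_compl, Fintype.card_subtype_eq, ← Nat.card_eq_fintype_card, h.card_eq,
      Fintype.card_fin]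
  obtain ⟨k, hk⟩ := ((Fintype.bijective_iff_injective_and_card f).2 ⟨hinj, hcard.symm⟩).2
    ⟨⟨t, ht⟩, fun e => ht1 (congrArg Subtype.val e)⟩
  exact ⟨k, congrArg (fun x => ((x.1 : (S : Subgroup G)) : G)) hk⟩

/-- An element of the normaliser fixing a nontrivial element centralises `S`. -/
theorem mem_centralizer_of_commute {n t : G} (hn : n ∈ normalizer ((S : Subgroup G) : Set G))
    (ht : t ∈ (S : Subgroup G)) (ht1 : t ≠ 1) (hc : n * t = t * n) :
    n ∈ centralizer ((S : Subgroup G) : Set G) := by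
  rw [mem_centralizer_iff]
  intro s hs
  by_contra hmove
  have hs1 : s ≠ 1 := fun e => hmove (by rw [e, one_mul, mul_one])
  obtain ⟨k, hk⟩ := h.exists_conj_pow hn hs hs1 ht ht1 (Ne.symm hmove)
  have hck : Commute (n ^ k) t := (show Commute n t from hc).pow_left k
  have : s = t := by
    calc s = (n ^ k)⁻¹ * t * n ^ k := by rw [← hk]; group
      _ = (n ^ k)⁻¹ * (n ^ k * t) := by rw [hck.eq, mul_assoc]
      _ = t := by group
  exact hmove (this ▸ hc.symm)

theorem centralizer_le {t : G} (ht : t ∈ (S : Subgroup G)) (ht1 : t ≠ 1) :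
    centralizer ({t} : Set G) ≤ coreOf (centralizer ({t} : Set G)) ⊔ (S : Subgroup G) := by
  refine le_coreOf_sup (h.le_centralizer ht) S.isPGroup'
    (fun Q hQ hle _ => S.is_maximal' hQ hle) ?_
  rintro n ⟨hn, hnc⟩
  exact h.mem_centralizer_of_commute hn ht ht1 (mem_centralizer_singleton_iff.1 hnc)

end Hyp

end CfsgLib.HallEight
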