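import Cfsg.Agent.HallEight.Setup
import Cfsg.Agent.S0205
import Cfsg.Agent.Inv54.Core
import Cfsg.Agent.SolvSig.Theorem
import Cfsg.Agent.Transfer.Fusion
import Cfsg.Agent.Small.StronglyEmbedded
import Cfsg.Agent.SEmbed.Elementary

/-!
# A minimal counterexample: the strongly embedded subgroup `M = W N(S)`

`W` is the closure of the cores of the involution centralisers.  Modulo `W` the group `M` is
`2^3 : 7`.
-/

set_option autoImplicit false
set_option linter.unusedSectionVars false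
set_option linter.style.haveILetI false

namespace CfsgLib.HallEight

open Subgroup CfsgLib.Signalizer CfsgLib.SEmbed

variable {G : Type*} [Group G] [Finite G]

/-- The setting of a minimal counterexample. -/
structure Setting (S : Sylow 2 G) extends Hyp S where
  core_bot : Cfsg.oddCore G = ⊥
  normalizer_ne : normalizer ((S : Subgroup G) : Set G) ≠ ⊤
  proper : ∀ X : Subgroup G, X ≠ ⊤ → (S : Subgroup G) ≤ X →
    X ≤ coreOf X ⊔ normalizer ((S : Subgroup G) : Set G)

/-- The core of an involution centraliser. -/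
abbrev theta (a : G) : Subgroup G := coreOf (centralizer ({a} : Set G))

/-- The odd closure. -/
def W (S : Sylow 2 G) : Subgroup G := Cfsg.signalizerClosure (S : Subgroup G) theta

/-- The strongly embedded subgroup. -/
def M (S : Sylow 2 G) : Subgroup G := W S ⊔ normalizer ((S : Subgroup G) : Set G)

variable {S : Sylow 2 G} (h : Setting S)

theorem normalizer_le_M : normalizer ((S : Subgroup G) : Set G) ≤ M S := le_sup_right

theorem le_M : (S : Subgroup G) ≤ M S := le_normalizer.trans normalizer_le_M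

theorem W_le_M : W S ≤ M S := le_sup_left

include h

theorem Setting.isSignalizer :
    Cfsg.IsSolvableSignalizerFunctor 2 (S : Subgroup G) theta := by
  refine ⟨⟨fun a _ _ => coreOf_le _, fun a _ _ => (odd_coreOf _).not_two_dvd_nat,
    fun a ha _ b hb x hx => ?_, ?_⟩, fun a _ _ => Cfsg.Agent.S0205.result (odd_coreOf _)⟩
  · exact (mem_normalizer_iff.1 (le_normalizer_coreOf _ (h.le_centralizer ha hb)) x).1 hx
  · intro a ha ha1 b hb hb1
    exact le_of_odd_card ((h.le_centralizer hb).trans (le_normalizer_coreOf _)) h.sq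
      (inf_le_right.trans (h.toHyp.centralizer_le hb hb1))
      ((odd_coreOf _).of_dvd_nat (card_dvd_of_le inf_le_left))

theorem Setting.odd_W : Odd (Nat.card (W S)) := by
  haveI : Fact (Nat.Prime 2) := ⟨Nat.prime_two⟩
  have h1 := (CfsgLib.SolvSig.isSolvable_signalizerClosure h.elab_sylow (by rw [h.card_eq]; norm_num)
    h.isSignalizer).2
  exact Nat.not_even_iff_odd.1 fun he => h1 he.two_dvd

theorem Setting.theta_le_W {a : G} (ha : a ∈ (S : Subgroup G)) (ha1 : a ≠ 1) : theta a ≤ W S :=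
  le_iSup (fun x : {a : G // a ∈ (S : Subgroup G) ∧ a ≠ 1} => theta (x : G)) ⟨a, ha, ha1⟩

theorem Setting.normalizer_le_normalizer_W :
    normalizer ((S : Subgroup G) : Set G) ≤ normalizer (W S : Set G) := by
  intro g hg
  refine CfsgLib.Transfer.mem_normalizer_of_map_conj_eq
    (eq_of_le_of_card_ge ?_ (card_map_of_injective (MulAut.conj g).injective).ge)
  rw [W, Cfsg.signalizerClosure, Subgroup.map_iSup]
  refine iSup_le fun a => ?_
  refine ((map_conj_coreOf_le g _).trans ?_)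
  rw [map_conj_centralizer]
  exact h.theta_le_W ((mem_normalizer_iff.1 hg a).1 a.2.1) fun e => a.2.2 (conj_eq_one_iff.1 e)

theorem Setting.M_le_normalizer : M S ≤ normalizer (W S : Set G) :=
  sup_le le_normalizer h.normalizer_le_normalizer_W

theorem Setting.conj_mem_W {x w : G} (hx : x ∈ M S) (hw : w ∈ W S) : x * w * x⁻¹ ∈ W S :=
  (mem_normalizer_iff.1 (h.M_le_normalizer hx) w).1 hw

theorem Setting.sylow_le_normalizer : (S : Subgroup G) ≤ normalizer (W S : Set G) :=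
  le_M.trans h.M_le_normalizer

theorem Setting.centralizer_le_sup {t : G} (ht : t ∈ (S : Subgroup G)) (ht1 : t ≠ 1) :
    centralizer ({t} : Set G) ≤ W S ⊔ (S : Subgroup G) :=
  (h.toHyp.centralizer_le ht ht1).trans (sup_le_sup_right (h.theta_le_W ht ht1) _)

theorem Setting.centralizer_le_M {t : G} (ht : t ∈ (S : Subgroup G)) (ht1 : t ≠ 1) :
    centralizer ({t} : Set G) ≤ M S :=
  (h.centralizer_le_sup ht ht1).trans (sup_le W_le_M le_M)

theorem Setting.exists_invol : ∃ t ∈ (S : Subgroup G), t ≠ 1 := by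
  by_contra! hc
  have : (S : Subgroup G) = ⊥ := (eq_bot_iff_forall _).2 hc
  have h8 := h.card_eq
  rw [this, card_bot] at h8
  omega

theorem Setting.centralizer_sylow_le :
    centralizer ((S : Subgroup G) : Set G) ≤ W S ⊔ (S : Subgroup G) := by
  obtain ⟨t, ht, ht1⟩ := h.exists_invol
  exact (centralizer_le (Set.singleton_subset_iff.2 ht)).trans (h.centralizer_le_sup ht ht1)

theorem Setting.M_ne_top : M S ≠ ⊤ := by
  intro he
  haveI : (W S).Normal := normalizer_eq_top_iff.1 (top_le_iff.1 (he ▸ h.M_le_normalizer))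
  have hW : W S = ⊥ := by
    rw [eq_bot_iff, ← h.core_bot]
    exact CfsgLib.PLocal.le_pPrimeCore (Nat.coprime_two_right.2 h.odd_W)
  rw [M, hW, bot_sup_eq] at he
  exact h.normalizer_ne he

theorem Setting.inf_sylow : W S ⊓ (S : Subgroup G) = ⊥ := by
  refine inf_eq_bot_of_coprime ?_
  rw [h.card_eq, show (8 : ℕ) = 2 ^ 3 by norm_num]
  exact (Nat.coprime_two_right.2 h.odd_W).pow_right 3

theorem Setting.eq_one_of_mem {x : G} (hW : x ∈ W S) (hS : x ∈ (S : Subgroup G)) : x = 1 :=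
  mem_bot.1 (h.inf_sylow ▸ ⟨hW, hS⟩)

theorem Setting.mem_W_of_odd {y : G} (hy : y ∈ W S ⊔ (S : Subgroup G)) (ho : Odd (orderOf y)) :
    y ∈ W S :=
  mem_of_odd_orderOf h.sylow_le_normalizer h.sq hy ho

theorem Setting.exists_decomp {x : G} (hx : x ∈ M S) :
    ∃ w ∈ W S, ∃ n ∈ normalizer ((S : Subgroup G) : Set G), w * n = x :=
  CfsgLib.Coprime.exists_mul_of_mem_sup h.normalizer_le_normalizer_W hx

theorem Setting.inf_normalizer_le :
    W S ⊓ normalizer ((S : Subgroup G) : Set G) ≤ centralizer ((S : Subgroup G) : Set G) := by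
  rintro x ⟨hxW, hxN⟩
  rw [mem_centralizer_iff]
  intro s hs
  have h1 : x * s * x⁻¹ * s⁻¹ ∈ (S : Subgroup G) :=
    mul_mem ((mem_normalizer_iff.1 hxN s).1 hs) (inv_mem hs)
  have h2 : x * s * x⁻¹ * s⁻¹ ∈ W S := by
    rw [show x * s * x⁻¹ * s⁻¹ = x * (s * x⁻¹ * s⁻¹) by group]
    exact mul_mem hxW ((mem_normalizer_iff.1 (h.sylow_le_normalizer hs) _).1 (inv_mem hxW))
  have h3 := h.eq_one_of_mem h2 h1
  exact (mul_inv_eq_iff_eq_mul.1 (mul_inv_eq_one.1 h3)).symm

theorem Setting.exists_mover :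
    ∃ n ∈ normalizer ((S : Subgroup G) : Set G), n ∉ centralizer ((S : Subgroup G) : Set G) := by
  by_contra! hc
  have h1 := oddCore_sup_of_normalizer_le S hc
  rw [h.core_bot, bot_sup_eq] at h1
  exact h.normalizer_ne (normalizer_eq_top_iff.2 (by rw [h1]; infer_instance))

theorem Setting.exists_conj_invol {s t : G} (hs : s ∈ (S : Subgroup G)) (hs1 : s ≠ 1)
    (ht : t ∈ (S : Subgroup G)) (ht1 : t ≠ 1) :
    ∃ n ∈ normalizer ((S : Subgroup G) : Set G), n * s * n⁻¹ = t := by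
  obtain ⟨n, hn, hnc⟩ := h.exists_mover
  obtain ⟨k, hk⟩ := h.exists_conj_pow hn hs hs1 ht ht1 fun e => hnc
    (h.mem_centralizer_of_commute hn hs hs1 e)
  exact ⟨n ^ k, pow_mem hn k, hk⟩

/-- Conjugation by an element of `M` modulo `W`. -/
theorem Setting.conj_mod {w n s : G} (hw : w ∈ W S)
    (hn : n ∈ normalizer ((S : Subgroup G) : Set G)) (hs : s ∈ (S : Subgroup G)) :
    (w * n) * s * (w * n)⁻¹ * (n * s * n⁻¹)⁻¹ ∈ W S := by
  have h1 := (mem_normalizer_iff.1
    (h.sylow_le_normalizer ((mem_normalizer_iff.1 hn s).1 hs)) w⁻¹).1 (inv_mem hw)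
  rw [show (w * n) * s * (w * n)⁻¹ * (n * s * n⁻¹)⁻¹ =
    w * ((n * s * n⁻¹) * w⁻¹ * (n * s * n⁻¹)⁻¹) by group]
  exact mul_mem hw h1

theorem Setting.mem_W_of_commute_mod {y s : G} (hy : y ∈ M S) (ho : Odd (orderOf y))
    (hs : s ∈ (S : Subgroup G)) (hs1 : s ≠ 1) (hc : y * s * y⁻¹ * s⁻¹ ∈ W S) : y ∈ W S := by
  obtain ⟨w, hw, n, hn, rfl⟩ := h.exists_decomp hy
  have h1 : n * s * n⁻¹ * s⁻¹ ∈ W S := by
    have := mul_mem (inv_mem (h.conj_mod hw hn hs)) hc
    simpa [mul_assoc] using this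
  have h2 := h.eq_one_of_mem h1 (mul_mem ((mem_normalizer_iff.1 hn s).1 hs) (inv_mem hs))
  have hnC : n ∈ centralizer ((S : Subgroup G) : Set G) := h.mem_centralizer_of_commute hn hs hs1
    (mul_inv_eq_iff_eq_mul.1 (mul_inv_eq_one.1 h2))
  exact h.mem_W_of_odd (mul_mem (mem_sup_left hw) (h.centralizer_sylow_le hnC)) ho

theorem Setting.pow_mem_W {x : G} (hx : x ∈ M S) (ho : (orderOf x).Coprime 14) : x ∈ W S := by
  obtain ⟨w, hw, n, hn, rfl⟩ := h.exists_decomp hx
  set W' := (W S).subgroupOf (M S)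
  haveI : W'.Normal := normal_subgroupOf_of_le_normalizer h.M_le_normalizer
  let x : M S := ⟨w * n, mul_mem (W_le_M hw) (normalizer_le_M hn)⟩
  have h14 : x ^ 14 ∈ W' := by
    obtain ⟨v, hv, s, hs, hvs⟩ := CfsgLib.Coprime.exists_mul_of_mem_sup h.sylow_le_normalizer
      (h.centralizer_sylow_le (h.pow_seven_mem hn))
    rw [← QuotientGroup.eq_one_iff, QuotientGroup.mk_pow]
    have e1 : ((x : M S) : M S ⧸ W') = ((⟨n, normalizer_le_M hn⟩ : M S) : M S ⧸ W') := by
      rw [show x = (⟨w, W_le_M hw⟩ : M S) * ⟨n, normalizer_le_M hn⟩ from rfl, QuotientGroup.mk_mul,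
        (QuotientGroup.eq_one_iff _).2 (show (⟨w, W_le_M hw⟩ : M S) ∈ W' from hw), one_mul]
    have e2 : ((⟨n, normalizer_le_M hn⟩ : M S) : M S ⧸ W') ^ 7 =
        ((⟨s, le_M hs⟩ : M S) : M S ⧸ W') := by
      rw [← QuotientGroup.mk_pow, show (⟨n, normalizer_le_M hn⟩ : M S) ^ 7 =
        (⟨v, W_le_M hv⟩ : M S) * ⟨s, le_M hs⟩ from Subtype.ext hvs.symm, QuotientGroup.mk_mul,
        (QuotientGroup.eq_one_iff _).2 (show (⟨v, W_le_M hv⟩ : M S) ∈ W' from hv), one_mul]
    rw [e1, show (14 : ℕ) = 7 * 2 from rfl, pow_mul, e2, ← QuotientGroup.mk_pow,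
      show (⟨s, le_M hs⟩ : M S) ^ 2 = 1 from Subtype.ext (h.pow_two_eq hs), QuotientGroup.mk_one]
  have h1 : (w * n) ^ 14 ∈ W S := h14
  obtain ⟨m, hm⟩ := exists_pow_eq_self_of_coprime (x := w * n) (n := 14) ho.symm
  rw [← hm]
  exact pow_mem h1 m

theorem Setting.exists_conj_mem {t : G} (ht : t ∈ M S) (ho : orderOf t = 2) :
    ∃ m ∈ M S, m * t * m⁻¹ ∈ (S : Subgroup G) := by
  haveI : Fact (Nat.Prime 2) := ⟨Nat.prime_two⟩
  let S' : Sylow 2 (M S) := S.subtype le_M
  have hp : IsPGroup 2 (zpowers (⟨t, ht⟩ : M S)) :=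
    IsPGroup.of_card (n := 1) (by rw [Nat.card_zpowers, orderOf_mk, ho, pow_one])
  obtain ⟨P, hP⟩ := hp.exists_le_sylow
  obtain ⟨x, hx⟩ := MulAction.exists_smul_eq (M S) P S'
  refine ⟨x, x.2, ?_⟩
  have h1 : x * ⟨t, ht⟩ * x⁻¹ ∈ (S' : Subgroup (M S)) := by
    rw [← hx, Sylow.coe_subgroup_smul]
    exact ⟨⟨t, ht⟩, hP (mem_zpowers _), rfl⟩
  rwa [Sylow.coe_subtype, mem_subgroupOf] at h1

theorem Setting.stronglyEmbedded : Cfsg.IsStronglyEmbedded (M S) := by
  have heven : Even (Nat.card (M S)) := even_iff_two_dvd.2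
    (dvd_trans ⟨4, h.card_eq.trans (by norm_num)⟩ (card_dvd_of_le (le_M (S := S))))
  refine (CfsgLib.Small.isStronglyEmbedded_iff_centralizer h.M_ne_top heven).2 ⟨?_, ?_⟩
  · intro t ht ho x hx
    obtain ⟨m, hm, hmt⟩ := h.exists_conj_mem ht ho
    have hm1 : m * t * m⁻¹ ≠ 1 := fun e => by
      rw [conj_eq_one_iff] at e; rw [e, orderOf_one] at ho; omega
    have h1 := h.centralizer_le_M hmt hm1 (show m * x * m⁻¹ ∈ centralizer _ by
      rw [mem_centralizer_singleton_iff] at hx ⊢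
      rw [show m * x * m⁻¹ * (m * t * m⁻¹) = m * (x * t) * m⁻¹ by group, hx]
      group)
    have := mul_mem (mul_mem (inv_mem hm) h1) hm
    rwa [show m⁻¹ * (m * x * m⁻¹) * m = x by group] at this
  · intro t ht s hs hto hso _
    obtain ⟨m, hm, hmt⟩ := h.exists_conj_mem ht hto
    obtain ⟨k, hk, hks⟩ := h.exists_conj_mem hs hso
    have hne : ∀ {y z : G}, orderOf z = 2 → y * z * y⁻¹ ≠ 1 := fun hz e => by
      rw [conj_eq_one_iff] at e; rw [e, orderOf_one] at hz; omega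
    obtain ⟨n, hn, hnk⟩ := h.exists_conj_invol hmt (hne hto) hks (hne hso)
    refine ⟨k⁻¹ * n * m, mul_mem (mul_mem (inv_mem hk) (normalizer_le_M hn)) hm, ?_⟩
    calc k⁻¹ * n * m * t * (k⁻¹ * n * m)⁻¹ = k⁻¹ * (n * (m * t * m⁻¹) * n⁻¹) * k := by group
      _ = s := by rw [hnk]; group

theorem Setting.uniqueFix : UniqueFix G (G ⧸ M S) := SEmbed.uniqueFix h.stronglyEmbedded

theorem Setting.eight_dvd_of_le_sup {U : Subgroup G} (hU : U ≤ M S)
    (hSU : (S : Subgroup G) ≤ W S ⊔ U) : 8 ∣ Nat.card U := by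
  haveI : ((W S).subgroupOf (M S)).Normal := normal_subgroupOf_of_le_normalizer h.M_le_normalizer
  have h1 := CfsgLib.PLocal.card_sup_dvd_mul (U.subgroupOf (M S)) ((W S).subgroupOf (M S))
  rw [← subgroupOf_sup hU W_le_M, Nat.card_congr (subgroupOfEquivOfLe (sup_le hU W_le_M)).toEquiv,
    Nat.card_congr (subgroupOfEquivOfLe hU).toEquiv,
    Nat.card_congr (subgroupOfEquivOfLe (W_le_M (S := S))).toEquiv] at h1
  have h2 : 8 ∣ Nat.card ↥(U ⊔ W S) := by
    rw [← h.card_eq, sup_comm]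
    exact card_dvd_of_le hSU
  refine (Nat.Coprime.dvd_of_dvd_mul_right ?_ (h2.trans h1))
  rw [show (8 : ℕ) = 2 ^ 3 by norm_num]
  exact (Nat.coprime_two_left.2 h.odd_W).pow_left 3

theorem Setting.invol_decomp {t : G} (htM : t ∈ M S) (ht : orderOf t = 2) :
    ∃ w ∈ W S, ∃ s ∈ (S : Subgroup G), s ≠ 1 ∧ w * s = t := by
  obtain ⟨w, hw, n, hn, hwn⟩ := h.exists_decomp htM
  have hn2 : n * n ∈ W S := by
    have e : n * n = (n * w * n⁻¹)⁻¹ * w⁻¹ * ((w * n) * (w * n)) := by group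
    rw [e, hwn, show t * t = 1 by rw [← pow_two, ← ht, pow_orderOf_eq_one], mul_one]
    exact mul_mem (inv_mem (h.conj_mem_W (normalizer_le_M hn) hw)) (inv_mem hw)
  have hnC : n ∈ centralizer ((S : Subgroup G) : Set G) := by
    rw [mem_centralizer_iff]
    intro x hx
    refine (h.commute_of_pow hn hx (a := 2) (by norm_num) ?_).symm
    exact ((mem_centralizer_iff.1 (h.inf_normalizer_le ⟨by rwa [pow_two], pow_mem hn 2⟩)) x hx).symm
  obtain ⟨v, hv, s, hs, hvs⟩ := CfsgLib.Coprime.exists_mul_of_mem_sup h.sylow_le_normalizer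
    (h.centralizer_sylow_le hnC)
  refine ⟨w * v, mul_mem hw hv, s, hs, ?_, by rw [← hwn, ← hvs, mul_assoc]⟩
  rintro rfl
  have htW : t ∈ W S := by rw [← hwn, ← hvs, mul_one]; exact mul_mem hw hv
  exact absurd (ht ▸ orderOf_dvd_natCard (W S) htW) h.odd_W.not_two_dvd_nat

/-- An involution and an element of odd order outside `W` generate a group of order divisible by eight. -/
theorem Setting.eight_dvd {U : Subgroup G} (hU : U ≤ M S) {t d : G} (htU : t ∈ U)
    (ht : orderOf t = 2) (hdU : d ∈ U) (ho : Odd (orderOf d)) (hd : d ∉ W S) :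
    8 ∣ Nat.card U := by
  obtain ⟨u, hu, s, hs, hs1, hus⟩ := h.invol_decomp (hU htU) ht
  have hts : s ∈ W S ⊔ U := by
    rw [show s = u⁻¹ * t by rw [← hus]; group]
    exact mul_mem (mem_sup_left (inv_mem hu)) (mem_sup_right htU)
  obtain ⟨w, hw, n, hn, rfl⟩ := h.exists_decomp (hU hdU)
  have hmove : n * s ≠ s * n := by
    intro e
    refine hd (h.mem_W_of_commute_mod (hU hdU) ho hs hs1 ?_)
    have h1 := h.conj_mod hw hn hs
    rwa [mul_inv_eq_iff_eq_mul.2 e] at h1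
  have hnU : n ∈ W S ⊔ U := by
    rw [show n = w⁻¹ * (w * n) by group]
    exact mul_mem (mem_sup_left (inv_mem hw)) (mem_sup_right hdU)
  refine h.eight_dvd_of_le_sup hU fun x hx => ?_
  by_cases hx1 : x = 1
  · rw [hx1]; exact one_mem _
  obtain ⟨k, hk⟩ := h.exists_conj_pow hn hs hs1 hx hx1 hmove
  rw [← hk]
  exact mul_mem (mul_mem (pow_mem hnU k) hts) (inv_mem (pow_mem hnU k))

end CfsgLib.HallEight
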